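import Cfsg.Agent.Lib.Coprime.PGroupFrattini
import Cfsg.Agent.Lib.PGroup.OmegaCentral

/-!
# Powerfully embedded invariant subgroups

For an odd prime `p`, if every invariant normal subgroup `N` inside `V` satisfies `⁅N, V⁆ ≤ N ^ p`,
the iterated `p`-th powers of such a subgroup behave like those of a uniform group.
-/

set_option autoImplicit false
set_option linter.style.haveILetI false
set_option linter.unusedSectionVars false

open Subgroup
open scoped commutatorElement

namespace CfsgLib.Alperin

universe u

variable {P : Type u} [Group P]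

/-- The subgroup generated by the `p`-th powers. -/
def pPow (p : ℕ) (N : Subgroup P) : Subgroup P := closure {y | ∃ x ∈ N, x ^ p = y}

theorem pow_mem_pPow {p : ℕ} {N : Subgroup P} {x : P} (hx : x ∈ N) : x ^ p ∈ pPow p N :=
  subset_closure ⟨x, hx, rfl⟩

theorem pPow_le {p : ℕ} (N : Subgroup P) : pPow p N ≤ N :=
  (closure_le N).2 (by rintro _ ⟨x, hx, rfl⟩; exact pow_mem hx p)

theorem pPow_mono {p : ℕ} {N M : Subgroup P} (h : N ≤ M) : pPow p N ≤ pPow p M :=
  (closure_le _).2 (by rintro _ ⟨x, hx, rfl⟩; exact pow_mem_pPow (h hx))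

theorem iterate_pPow_le {p : ℕ} (N : Subgroup P) : ∀ t, (pPow p)^[t] N ≤ N := by
  intro t
  induction t with
  | zero => exact le_rfl
  | succ t ih => rw [Function.iterate_succ_apply']; exact (pPow_le _).trans ih

theorem iterate_pPow_mono {p : ℕ} {N M : Subgroup P} (h : N ≤ M) :
    ∀ t, (pPow p)^[t] N ≤ (pPow p)^[t] M := by
  intro t
  induction t with
  | zero => exact h
  | succ t ih => rw [Function.iterate_succ_apply', Function.iterate_succ_apply']; exact pPow_mono ih

theorem iterate_pPow_antitone {p : ℕ} (N : Subgroup P) {s t : ℕ} (h : s ≤ t) :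
    (pPow p)^[t] N ≤ (pPow p)^[s] N := by
  obtain ⟨d, rfl⟩ := Nat.exists_eq_add_of_le h
  rw [add_comm, Function.iterate_add_apply]
  exact iterate_pPow_le _ d

theorem pow_mem_iterate {p : ℕ} {N : Subgroup P} {x : P} (hx : x ∈ N) :
    ∀ t, x ^ p ^ t ∈ (pPow p)^[t] N := by
  intro t
  induction t with
  | zero => rwa [pow_zero, pow_one]
  | succ t ih =>
    rw [Function.iterate_succ_apply', pow_succ, pow_mul]
    exact pow_mem_pPow ih

/-- The derived series of a subgroup. -/
def derS (N : Subgroup P) (j : ℕ) : Subgroup P := (fun X : Subgroup P => ⁅X, X⁆)^[j] N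

theorem derS_zero (N : Subgroup P) : derS N 0 = N := rfl

theorem derS_succ (N : Subgroup P) (j : ℕ) : derS N (j + 1) = ⁅derS N j, derS N j⁆ :=
  Function.iterate_succ_apply' _ j N

theorem derS_add (N : Subgroup P) (i j : ℕ) : derS N (i + j) = derS (derS N i) j := by
  rw [add_comm]
  exact Function.iterate_add_apply _ j i N

theorem derS_mono {N M : Subgroup P} (h : N ≤ M) : ∀ j, derS N j ≤ derS M j := by
  intro j
  induction j with
  | zero => exact h
  | succ j ih => rw [derS_succ, derS_succ]; exact commutator_mono ih ih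

theorem derS_le {N : Subgroup P} : ∀ j, derS N j ≤ N := by
  intro j
  induction j with
  | zero => exact le_rfl
  | succ j ih =>
    rw [derS_succ, commutator_le]
    intro a ha b hb
    rw [commutatorElement_def]
    exact mul_mem (mul_mem (mul_mem (ih ha) (ih hb)) (inv_mem (ih ha))) (inv_mem (ih hb))

theorem derS_antitone (N : Subgroup P) {i j : ℕ} (h : i ≤ j) : derS N j ≤ derS N i := by
  obtain ⟨d, rfl⟩ := Nat.exists_eq_add_of_le h
  rw [derS_add]
  exact derS_le d

/-- Conjugation acts on a modulo-central element by a central factor, iterated. -/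
theorem conj_pow_of_central {H : Type*} [Group H] {a b w : H} (h : b * a * b⁻¹ = w * a)
    (hw : Commute w b) : ∀ n : ℕ, b ^ n * a * (b ^ n)⁻¹ = w ^ n * a := by
  intro n
  induction n with
  | zero => simp
  | succ n ih =>
    calc b ^ (n + 1) * a * (b ^ (n + 1))⁻¹ = b * (b ^ n * a * (b ^ n)⁻¹) * b⁻¹ := by
          rw [pow_succ']; group
      _ = (b * w ^ n) * a * b⁻¹ := by rw [ih]; group
      _ = (w ^ n * b) * a * b⁻¹ := by rw [((hw.pow_left n).symm).eq]
      _ = w ^ n * (b * a * b⁻¹) := by group
      _ = w ^ (n + 1) * a := by rw [h, pow_succ]; group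

theorem prime_dvd_choose_two {p : ℕ} (hp : p.Prime) (hp2 : p ≠ 2) : p ∣ p.choose 2 :=
  hp.dvd_choose_self (by norm_num) (lt_of_le_of_ne hp.two_le (Ne.symm hp2))

/-- The `p`-th power of a product with a small commutator. -/
theorem mul_pow_prime {H : Type*} [Group H] {p : ℕ} (hp : p.Prime) (hp2 : p ≠ 2) {a b w : H}
    (hba : b * a * b⁻¹ = w * a) (hwa : Commute w a) (hwb : Commute w b) (hwp : w ^ p = 1) :
    (a * b) ^ p = a ^ p * b ^ p := by
  have hc : b * a = w * (a * b) := by rw [mul_inv_eq_iff_eq_mul] at hba; rw [hba, mul_assoc]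
  rw [CfsgLib.PGroup.mul_pow_of_commute_commutator hc hwa hwb]
  obtain ⟨k, hk⟩ := prime_dvd_choose_two hp hp2
  rw [hk, pow_mul, hwp, one_pow, mul_one]

/-- In a nilpotent group a normal subgroup covered by `A` and its own commutator lies in `A`. -/
theorem le_of_le_sup_commutator [Group.IsNilpotent P] {K A : Subgroup P} [A.Normal]
    (h : K ≤ A ⊔ ⁅K, (⊤ : Subgroup P)⁆) : K ≤ A := by
  have hQ : K.map (QuotientGroup.mk' A) ≤
      ⁅K.map (QuotientGroup.mk' A), (⊤ : Subgroup (P ⧸ A))⁆ := by
    refine (map_mono (f := QuotientGroup.mk' A) h).trans ?_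
    rw [Subgroup.map_sup, QuotientGroup.map_mk'_self, bot_sup_eq, map_commutator,
      map_top_of_surjective _ (QuotientGroup.mk'_surjective A)]
  obtain ⟨c, hc⟩ := Subgroup.nilpotent_iff_lowerCentralSeries.1
    (inferInstance : Group.IsNilpotent (P ⧸ A))
  have hle : ∀ i, K.map (QuotientGroup.mk' A) ≤ (⊤ : Subgroup (P ⧸ A)).lowerCentralSeries i := by
    intro i
    induction i with
    | zero => exact le_top.trans_eq (Subgroup.lowerCentralSeries_zero _).symm
    | succ i ih => exact hQ.trans (commutator_mono ih le_rfl)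
  intro x hx
  have h1 := hle c (mem_map_of_mem _ hx)
  rw [hc, mem_bot, QuotientGroup.mk'_apply, QuotientGroup.eq_one_iff] at h1
  exact h1

/-- An invariant normal subgroup inside `V`. -/
structure Good (β : MulAut P) (V N : Subgroup P) : Prop where
  normal : N.Normal
  le : N ≤ V
  inv : ∀ x ∈ N, β x ∈ N

variable {β : MulAut P} {V : Subgroup P} {p : ℕ}

theorem Good.pPow {N : Subgroup P} (h : Good β V N) : Good β V (Alperin.pPow p N) where
  normal := ⟨fun z hz g => by
    induction hz using closure_induction with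
    | mem z hz =>
      obtain ⟨x, hx, rfl⟩ := hz
      rw [← conj_pow]
      exact pow_mem_pPow (h.normal.conj_mem x hx g)
    | one => simp
    | mul a b _ _ ha hb =>
      rw [show g * (a * b) * g⁻¹ = g * a * g⁻¹ * (g * b * g⁻¹) by group]
      exact mul_mem ha hb
    | inv a _ ha => rw [← conj_inv]; exact inv_mem ha⟩
  le := (pPow_le N).trans h.le
  inv z hz := by
    induction hz using closure_induction with
    | mem z hz =>
      obtain ⟨x, hx, rfl⟩ := hz
      rw [map_pow]
      exact pow_mem_pPow (h.inv x hx)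
    | one => rw [map_one]; exact one_mem _
    | mul a b _ _ ha hb => rw [map_mul]; exact mul_mem ha hb
    | inv a _ ha => rw [map_inv]; exact inv_mem ha

theorem Good.iterate {N : Subgroup P} (h : Good β V N) :
    ∀ t, Good β V ((Alperin.pPow p)^[t] N) := by
  intro t
  induction t with
  | zero => exact h
  | succ t ih => rw [Function.iterate_succ_apply']; exact ih.pPow

theorem Good.commutator {N M : Subgroup P} (h : Good β V N) (h' : Good β V M) :
    Good β V ⁅N, M⁆ where
  normal := haveI := h.normal; haveI := h'.normal; inferInstance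
  le := (haveI := h'.normal; commutator_le_right N M : ⁅N, M⁆ ≤ M).trans h'.le
  inv z hz := by
    rw [Subgroup.commutator_def] at hz
    induction hz using closure_induction with
    | mem z hz =>
      obtain ⟨a, ha, b, hb, rfl⟩ := hz
      rw [map_commutatorElement]
      exact commutator_mem_commutator (h.inv a ha) (h'.inv b hb)
    | one => rw [map_one]; exact one_mem _
    | mul a b _ _ ha hb => rw [map_mul]; exact mul_mem ha hb
    | inv a _ ha => rw [map_inv]; exact inv_mem ha

theorem Good.derS {N : Subgroup P} (h : Good β V N) : ∀ j, Good β V (Alperin.derS N j) := by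
  intro j
  induction j with
  | zero => exact h
  | succ j ih => rw [derS_succ]; exact ih.commutator ih

variable [hp : Fact p.Prime] (hp2 : p ≠ 2) (hPE : ∀ N, Good β V N → ⁅N, V⁆ ≤ pPow p N)

include hPE in
theorem commute_mod {K : Subgroup P} (hK : Good β V K) {A : Subgroup P} [A.Normal]
    (hA : pPow p K ≤ A) {k x : P} (hk : k ∈ K) (hx : x ∈ V) :
    Commute (QuotientGroup.mk' A k) (QuotientGroup.mk' A x) := by
  rw [← commutatorElement_eq_one_iff_commute, ← map_commutatorElement, QuotientGroup.mk'_apply,
    QuotientGroup.eq_one_iff]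
  exact hA (hPE K hK (commutator_mem_commutator hk hx))

include hPE in
theorem commutator_pPow_le {N M : Subgroup P} (hN : Good β V N) (hM : Good β V M) :
    ⁅pPow p N, M⁆ ≤ pPow p ⁅N, M⁆ := by
  set A := pPow p ⁅N, M⁆ with hA
  haveI : A.Normal := (hN.commutator hM).pPow.normal
  let π := QuotientGroup.mk' A
  rw [commutator_le]
  intro g hg y hy
  rw [← QuotientGroup.eq_one_iff, ← QuotientGroup.mk'_apply, map_commutatorElement,
    commutatorElement_eq_one_iff_commute]
  show Commute (π g) (π y)
  induction hg using closure_induction with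
  | mem z hz =>
    obtain ⟨x, hx, rfl⟩ := hz
    have hc := commutator_mem_commutator hx hy
    set c := π ⁅x, y⁆ with hcdef
    have hcx : Commute c (π x) := commute_mod hPE (hN.commutator hM) le_rfl hc (hN.le hx)
    have hcp : c ^ p = 1 := by
      rw [hcdef, ← map_pow]
      exact (QuotientGroup.eq_one_iff _).2 (pow_mem_pPow hc)
    have e : π y * π x * (π y)⁻¹ = c⁻¹ * π x := by
      rw [hcdef, ← map_inv, ← map_inv, ← map_mul, ← map_mul, ← map_mul, commutatorElement_def]
      exact congrArg π (by group)
    have e2 := congrArg (· ^ p) e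
    simp only [conj_pow] at e2
    rw [hcx.inv_left.mul_pow, inv_pow, hcp, inv_one, one_mul, mul_inv_eq_iff_eq_mul, ← map_pow] at e2
    exact e2.symm
  | one => rw [map_one]; exact Commute.one_left _
  | mul a b _ _ ha hb => rw [map_mul]; exact ha.mul_left hb
  | inv a _ ha => rw [map_inv]; exact ha.inv_left

include hPE hp2 in
theorem pPow_commutator_le [Group.IsNilpotent P] {N M : Subgroup P} (hN : Good β V N)
    (hM : Good β V M) : pPow p ⁅N, M⁆ ≤ ⁅pPow p N, M⁆ := by
  set K := ⁅N, M⁆ with hKdef
  have hK : Good β V K := hN.commutator hM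
  haveI := (hN.pPow (p := p)).normal
  haveI := hM.normal
  haveI := (hK.pPow (p := p)).normal
  refine le_of_le_sup_commutator ((closure_le _).2 ?_)
  set A := ⁅pPow p N, M⁆ ⊔ ⁅pPow p K, (⊤ : Subgroup P)⁆ with hA
  let π := QuotientGroup.mk' A
  have hcent : ∀ k ∈ K, ∀ v ∈ V, ∀ z : P, Commute (π ⁅k, v⁆) (π z) := by
    intro k hk v hv z
    rw [← commutatorElement_eq_one_iff_commute, ← map_commutatorElement]
    exact (QuotientGroup.eq_one_iff _).2 (mem_sup_right
      (commutator_mem_commutator (hPE K hK (commutator_mem_commutator hk hv)) (mem_top z)))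
  have hsub : ∀ k ∈ K, (π k) ^ p = 1 := by
    intro k hk
    have key : k ∈ K ∧ (π k) ^ p = 1 := by
      rw [hKdef, Subgroup.commutator_def] at hk
      induction hk using closure_induction with
      | mem z hz =>
        obtain ⟨x, hx, y, hy, rfl⟩ := hz
        have hk : ⁅x, y⁆ ∈ K := commutator_mem_commutator hx hy
        refine ⟨hk, ?_⟩
        set k := ⁅x, y⁆ with hkdef
        set w := π ⁅x, k⁻¹⁆ with hwdef
        have hw : ∀ z, Commute w (π z) := fun z => by
          rw [hwdef, ← commutatorElement_inv, map_inv]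
          exact (hcent _ (inv_mem hk) _ (hN.le hx) z).inv_left
        have e1 : π x * π k⁻¹ * (π x)⁻¹ = w * π k⁻¹ := by
          rw [hwdef, ← map_inv π x, ← map_mul, ← map_mul, ← map_mul, commutatorElement_def]
          exact congrArg π (by group)
        have hwp : w ^ p = 1 := by
          have h := conj_pow_of_central e1 (hw x) p
          have h1 : π ⁅x ^ p, k⁻¹⁆ = 1 := (QuotientGroup.eq_one_iff _).2 (mem_sup_left
            (commutator_mono le_rfl (commutator_le_right N M)
              (commutator_mem_commutator (pow_mem_pPow hx) (inv_mem hk))))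
          rw [map_commutatorElement, map_pow, commutatorElement_eq_one_iff_commute] at h1
          rw [h1.eq, mul_inv_cancel_right, right_eq_mul] at h
          exact h
        have e2 := mul_pow_prime hp.out hp2 e1 (hw _) (hw _) hwp
        have e3 : π y * π x * (π y)⁻¹ = π k⁻¹ * π x := by
          rw [hkdef, ← map_inv π y, ← map_mul, ← map_mul, ← map_mul, commutatorElement_def]
          exact congrArg π (by group)
        have e4 := congrArg (· ^ p) e3
        simp only [conj_pow, e2] at e4
        have h5 : π ⁅x ^ p, y⁆ = 1 := (QuotientGroup.eq_one_iff _).2 (mem_sup_left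
          (commutator_mem_commutator (pow_mem_pPow hx) hy))
        rw [map_commutatorElement, map_pow, commutatorElement_eq_one_iff_commute] at h5
        rw [← h5.eq, mul_inv_cancel_right, right_eq_mul, map_inv, inv_pow, inv_eq_one] at e4
        exact e4
      | one => exact ⟨one_mem _, by rw [map_one, one_pow]⟩
      | mul a b _ _ ha hb =>
        refine ⟨mul_mem ha.1 hb.1, ?_⟩
        have hw : ∀ z, Commute (π ⁅b, a⁆) (π z) := hcent b hb.1 a (hK.le ha.1)
        have e1 : π b * π a * (π b)⁻¹ = π ⁅b, a⁆ * π a := by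
          rw [← map_inv, ← map_mul, ← map_mul, ← map_mul, commutatorElement_def]
          exact congrArg π (by group)
        have hwp : π ⁅b, a⁆ ^ p = 1 := by
          have h := conj_pow_of_central e1 (hw b) p
          rw [hb.2, inv_one, one_mul, mul_one, right_eq_mul] at h
          exact h
        rw [map_mul, mul_pow_prime hp.out hp2 e1 (hw _) (hw _) hwp, ha.2, hb.2, one_mul]
      | inv a _ ha => exact ⟨inv_mem ha.1, by rw [map_inv, inv_pow, ha.2, inv_one]⟩
    exact key.2
  rintro _ ⟨k, hk, rfl⟩
  rw [SetLike.mem_coe, ← QuotientGroup.eq_one_iff, QuotientGroup.mk_pow]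
  exact hsub k hk

include hPE in
theorem commutator_iterate_le {N : Subgroup P} (hN : Good β V N) :
    ∀ a b, ⁅(pPow p)^[a] N, (pPow p)^[b] N⁆ ≤ (pPow p)^[a + b + 1] N := by
  intro a
  induction a with
  | zero =>
    intro b
    rw [Function.iterate_zero_apply, zero_add, Function.iterate_succ_apply', commutator_comm]
    exact (commutator_mono le_rfl hN.le).trans (hPE _ (hN.iterate b))
  | succ a ih =>
    intro b
    rw [Function.iterate_succ_apply', show a + 1 + b + 1 = a + b + 1 + 1 by omega,
      Function.iterate_succ_apply' (pPow p) (a + b + 1)]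
    exact (commutator_pPow_le hPE (hN.iterate a) (hN.iterate b)).trans (pPow_mono (ih b))

include hPE hp2 in
theorem iterate_commutator_le [Group.IsNilpotent P] {N M : Subgroup P} (hN : Good β V N)
    (hM : Good β V M) (s t : ℕ) :
    (pPow p)^[s + t] ⁅N, M⁆ ≤ ⁅(pPow p)^[s] N, (pPow p)^[t] M⁆ := by
  have h1 : ∀ (A B : Subgroup P), Good β V A → Good β V B → ∀ s,
      (pPow p)^[s] ⁅A, B⁆ ≤ ⁅(pPow p)^[s] A, B⁆ := by
    intro A B hA hB s
    induction s with
    | zero => exact le_rfl
    | succ s ih =>
      rw [Function.iterate_succ_apply', Function.iterate_succ_apply']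
      exact (pPow_mono ih).trans (pPow_commutator_le hp2 hPE (hA.iterate s) hB)
  rw [add_comm, Function.iterate_add_apply]
  refine (iterate_pPow_mono (h1 N M hN hM s) t).trans ?_
  rw [commutator_comm, commutator_comm ((pPow p)^[s] N)]
  exact h1 M _ hM (hN.iterate s) t

include hPE hp2 in
theorem iterate_derS_le [Group.IsNilpotent P] {N : Subgroup P} (hN : Good β V N) (a : ℕ) :
    ∀ j, (pPow p)^[2 ^ j * a] (derS N j) ≤ derS ((pPow p)^[a] N) j := by
  intro j
  induction j with
  | zero => rw [pow_zero, one_mul]; exact le_rfl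
  | succ j ih =>
    rw [derS_succ, derS_succ, show 2 ^ (j + 1) * a = 2 ^ j * a + 2 ^ j * a by ring]
    exact (iterate_commutator_le hp2 hPE (hN.derS j) (hN.derS j) _ _).trans (commutator_mono ih ih)

/-- The size of a layer. -/
noncomputable def layerSize (p : ℕ) (N : Subgroup P) (j : ℕ) : ℕ :=
  ((pPow p)^[j + 1] N).relIndex ((pPow p)^[j] N)

theorem layerSize_iterate (N : Subgroup P) (b j : ℕ) :
    layerSize p ((pPow p)^[b] N) j = layerSize p N (j + b) := by
  unfold layerSize
  rw [← Function.iterate_add_apply, ← Function.iterate_add_apply, add_right_comm]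

include hPE hp2 in
/-- The power map between consecutive layers. -/
theorem layer_step [Finite P] {N : Subgroup P} (hN : Good β V N) (j : ℕ) :
    layerSize p N (j + 1) ≤ layerSize p N j ∧ (layerSize p N (j + 1) = layerSize p N j →
      ∀ x ∈ (pPow p)^[j] N, x ^ p ∈ (pPow p)^[j + 2] N → x ∈ (pPow p)^[j + 1] N) := by
  set Hj := (pPow p)^[j] N with hHj
  set H1 := (pPow p)^[j + 1] N with hH1
  set H2 := (pPow p)^[j + 2] N with hH2
  haveI : H2.Normal := (hN.iterate (p := p) (j + 2)).normal
  let π := QuotientGroup.mk' H2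
  have hH1' : H1 = pPow p Hj := Function.iterate_succ_apply' _ _ _
  have hmul : ∀ x ∈ Hj, ∀ y ∈ Hj, π ((x * y) ^ p) = π (x ^ p) * π (y ^ p) := by
    intro x hx y hy
    have hc : ⁅y, x⁆ ∈ H1 :=
      iterate_pPow_antitone N (by omega) (commutator_iterate_le hPE hN j j
        (commutator_mem_commutator hy hx))
    have hcom : ∀ z ∈ Hj, Commute (π ⁅y, x⁆) (π z) := by
      intro z hz
      rw [← commutatorElement_eq_one_iff_commute, ← map_commutatorElement]
      exact (QuotientGroup.eq_one_iff _).2 (iterate_pPow_antitone N (by omega)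
        (commutator_iterate_le hPE hN (j + 1) j (commutator_mem_commutator hc hz)))
    have hcp : π ⁅y, x⁆ ^ p = 1 := by
      rw [← map_pow]
      refine (QuotientGroup.eq_one_iff _).2 ?_
      rw [hH2, Function.iterate_succ_apply']
      exact pow_mem_pPow hc
    simp only [map_pow, map_mul]
    refine mul_pow_prime hp.out hp2 ?_ (hcom x hx) (hcom y hy) hcp
    rw [← map_inv, ← map_mul, ← map_mul, ← map_mul, commutatorElement_def]
    exact congrArg π (by group)
  let ψ : Hj →* P ⧸ H2 := MonoidHom.mk' (fun x => π ((x : P) ^ p)) fun x y => hmul x x.2 y y.2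
  have hrange : ψ.range = H1.map π := by
    refine le_antisymm ?_ ?_
    · rintro _ ⟨x, rfl⟩
      exact mem_map_of_mem π (hH1' ▸ pow_mem_pPow x.2)
    · rw [hH1', pPow, MonoidHom.map_closure, closure_le]
      rintro _ ⟨_, ⟨x, hx, rfl⟩, rfl⟩
      exact ⟨⟨x, hx⟩, rfl⟩
  have hker : H1.subgroupOf Hj ≤ ψ.ker := by
    intro x hx
    refine (QuotientGroup.eq_one_iff _).2 ?_
    rw [hH2, Function.iterate_succ_apply']
    exact pow_mem_pPow hx
  have hcard : layerSize p N (j + 1) = ψ.ker.index := by
    have h1 : layerSize p N (j + 1) = π.ker.relIndex H1 := by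
      rw [QuotientGroup.ker_mk']
      rfl
    rw [h1, relIndex_ker, Subgroup.index_ker, hrange]
  refine ⟨hcard ▸ Subgroup.index_antitone hker, fun heq x hx hxp => ?_⟩
  rw [hcard] at heq
  have hkeq : H1.subgroupOf Hj = ψ.ker := by
    by_contra hne
    exact absurd heq (Subgroup.index_strictAnti (lt_of_le_of_ne hker hne)).ne
  have : (⟨x, hx⟩ : Hj) ∈ ψ.ker := (QuotientGroup.eq_one_iff _).2 hxp
  rwa [← hkeq] at this

include hPE hp2 in
/-- In a uniform segment the power maps are injective. -/
theorem mem_of_pow_mem [Finite P] {N : Subgroup P} (hN : Good β V N) {e : ℕ}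
    (hu : ∀ j < e, layerSize p N j = layerSize p N 0) : ∀ u t, u + t ≤ e → ∀ x ∈ N,
      x ^ p ^ t ∈ (pPow p)^[u + t] N → x ∈ (pPow p)^[u] N := by
  have h1 : ∀ t u, u + t + 1 ≤ e → ∀ x ∈ (pPow p)^[u] N,
      x ^ p ^ t ∈ (pPow p)^[u + t + 1] N → x ∈ (pPow p)^[u + 1] N := by
    intro t
    induction t with
    | zero => intro u _ x _ h; rwa [pow_zero, pow_one] at h
    | succ t ih =>
      intro u hue x hx h
      refine ih u (by omega) x hx ?_
      have hy : x ^ p ^ t ∈ (pPow p)^[u + t] N := by
        rw [add_comm, Function.iterate_add_apply]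
        exact pow_mem_iterate hx t
      refine (layer_step hp2 hPE hN (u + t)).2 ?_ _ hy ?_
      · exact (hu (u + t + 1) (by omega)).trans (hu (u + t) (by omega)).symm
      · rw [← pow_mul, ← pow_succ]
        exact h
  intro u
  induction u with
  | zero => intro t _ x hx _; exact hx
  | succ u ih =>
    intro t hue x hx h
    have hxu := ih t (by omega) x hx (iterate_pPow_antitone N (by omega) h)
    refine h1 t u (by omega) x hxu ?_
    rwa [show u + t + 1 = u + 1 + t by omega]

include hPE in
theorem derS_iterate_le {N : Subgroup P} (hN : Good β V N) (u : ℕ) :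
    ∀ j, derS ((pPow p)^[u] N) j ≤ (pPow p)^[2 ^ j * u] N := by
  intro j
  induction j with
  | zero => rw [pow_zero, one_mul]; exact le_rfl
  | succ j ih =>
    rw [derS_succ, show 2 ^ (j + 1) * u = 2 ^ j * u + 2 ^ j * u by ring]
    exact (commutator_mono ih ih).trans
      ((commutator_iterate_le hPE hN _ _).trans (iterate_pPow_antitone N (Nat.le_succ _)))

include hPE in
theorem derS_le_iterate {N : Subgroup P} (hN : Good β V N) :
    ∀ j, derS N j ≤ (pPow p)^[j] N := by
  intro j
  induction j with
  | zero => exact le_rfl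
  | succ j ih =>
    rw [derS_succ]
    exact (commutator_mono ih ih).trans
      ((commutator_iterate_le hPE hN _ _).trans (iterate_pPow_antitone N (by omega)))

/-- The length of a uniform segment of the derived series. -/
def segBound (K c : ℕ) : ℕ := max (2 * K + 3) ((2 ^ K + 1) * (2 * c + 2))

include hPE hp2 in
/-- A uniform segment is passed by boundedly many derived steps. -/
theorem derS_le_of_uniform [Finite P] [Group.IsNilpotent P] {K c : ℕ} {N : Subgroup P}
    (hN : Good β V N)
    (hLie : ∀ a, ∀ d ∈ derS ((pPow p)^[a] N) K, d ^ p ^ c ∈ (pPow p)^[(2 ^ K + 1) * a] N)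
    {e : ℕ} (hu : ∀ j < e, layerSize p N j = layerSize p N 0) :
    derS N (segBound K c) ≤ (pPow p)^[e] N := by
  by_cases he : e < (2 ^ K + 1) * (2 * c + 2)
  · refine (derS_antitone N ?_).trans (derS_le_iterate hPE hN e)
    exact he.le.trans (le_max_right _ _)
  push Not at he
  set Q := 2 ^ K + 1 with hQ
  set a := e / Q with ha
  have hQa : Q * a ≤ e := Nat.mul_div_le e Q
  have hea : e < Q * (a + 1) := Nat.lt_mul_div_succ e (Nat.succ_pos _)
  have hac : 2 * c + 2 ≤ a :=
    (Nat.le_div_iff_mul_le (Nat.succ_pos _)).2 (by rw [mul_comm]; exact he)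
  have hK1 : derS N K ≤ (pPow p)^[a - c] N := by
    intro x hx
    refine mem_of_pow_mem hp2 hPE hN hu (a - c) (2 ^ K * a + c) ?_ x (derS_le K hx) ?_
    · rw [hQ, add_mul, one_mul] at hQa; omega
    · have h1 := iterate_derS_le hp2 hPE hN a K (pow_mem_iterate hx _)
      have h2 := hLie a _ h1
      rw [← pow_mul, ← pow_add] at h2
      rwa [show a - c + (2 ^ K * a + c) = (2 ^ K + 1) * a by rw [add_mul, one_mul]; omega]
  refine (derS_antitone N (le_max_left (2 * K + 3) _)).trans ?_
  rw [show 2 * K + 3 = K + (K + 3) by omega, derS_add]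
  refine ((derS_mono hK1 _).trans (derS_iterate_le hPE hN _ _)).trans (iterate_pPow_antitone N ?_)
  have h1 : 2 ^ (K + 3) * (a - c) ≥ 2 ^ (K + 2) * a := by
    rw [pow_succ, mul_assoc]
    exact Nat.mul_le_mul le_rfl (by omega)
  have h2 : Q * (a + 1) ≤ 2 ^ (K + 1) * (2 * a) :=
    Nat.mul_le_mul (by rw [hQ, pow_succ]; have := Nat.one_le_two_pow (n := K); omega) (by omega)
  have h3 : 2 ^ (K + 1) * (2 * a) = 2 ^ (K + 2) * a := by ring
  omega

/-- A nontrivial subgroup of a `p`-group is not generated by its `p`-th powers. -/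
theorem pPow_lt [Finite P] (hP : IsPGroup p P) {N : Subgroup P} (hne : N ≠ ⊥) : pPow p N < N := by
  refine lt_of_le_of_ne (pPow_le N) fun e => ?_
  haveI : Nontrivial N := nontrivial_iff_ne_bot N |>.2 hne
  obtain ⟨M, hM⟩ := (IsCoatomic.eq_top_or_exists_le_coatom (⊥ : Subgroup N)).resolve_left bot_ne_top
  have hle : N ≤ (frattini N).map N.subtype := e.symm.le.trans ((closure_le _).2 (by
    rintro _ ⟨x, hx, rfl⟩
    exact ⟨⟨x, hx⟩ ^ p, CfsgLib.Coprime.pow_mem_frattini (hP.to_subgroup N) _, rfl⟩))
  refine hM.1.1 (eq_top_iff.2 fun x _ => ?_)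
  obtain ⟨y, hy, hxy⟩ := hle x.2
  exact frattini_le_coatom hM.1 (N.subtype_injective hxy ▸ hy)

theorem exists_iterate_eq_bot [Finite P] (hP : IsPGroup p P) (N : Subgroup P) :
    ∃ t, (pPow p)^[t] N = ⊥ := by
  induction hn : Nat.card N using Nat.strong_induction_on generalizing N with
  | _ m ih =>
    by_cases hne : N = ⊥
    · exact ⟨0, hne⟩
    · have hlt := pPow_lt hP hne
      have hc : Nat.card (pPow p N) < m := hn ▸ lt_of_le_of_ne (Subgroup.card_le_of_le hlt.le)
        fun e => hlt.ne (eq_of_le_of_card_ge hlt.le e.ge)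
      obtain ⟨t, ht⟩ := ih _ hc (pPow p N) rfl
      exact ⟨t + 1, by rwa [Function.iterate_succ_apply]⟩

include hPE hp2 in
/-- The derived length is bounded in terms of the size of the first layer. -/
theorem derS_eq_bot [Finite P] (hP : IsPGroup p P) {K c : ℕ}
    (hLie : ∀ N, Good β V N → ∀ a, ∀ d ∈ derS ((pPow p)^[a] N) K,
      d ^ p ^ c ∈ (pPow p)^[(2 ^ K + 1) * a] N) :
    ∀ d N, Good β V N → layerSize p N 0 ≤ p ^ d → derS N (d * segBound K c) = ⊥ := by
  haveI : Group.IsNilpotent P := hP.isNilpotent
  intro d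
  induction d with
  | zero =>
    intro N _ hd
    rw [zero_mul, derS_zero]
    by_contra hne
    have hlt := pPow_lt hP hne
    have h1 : layerSize p N 0 = 1 := by
      refine le_antisymm (by simpa using hd) ?_
      exact Nat.one_le_iff_ne_zero.2 (Subgroup.index_ne_zero_of_finite)
    exact hlt.not_ge (relIndex_eq_one.1 h1)
  | succ d ih =>
    intro N hN hd
    by_cases hall : ∀ j, layerSize p N j = layerSize p N 0
    · obtain ⟨t, ht⟩ := exists_iterate_eq_bot hP N
      have h1 : layerSize p N t = 1 := by
        rw [layerSize, ht, relIndex_eq_one]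
        exact bot_le
      have hN0 : N = ⊥ := by
        by_contra hne
        exact (pPow_lt hP hne).not_ge (relIndex_eq_one.1 ((hall t).symm.trans h1))
      rw [eq_bot_iff]
      exact (derS_le _).trans hN0.le
    · push Not at hall
      classical
      obtain ⟨b, hb, hmin⟩ : ∃ b, layerSize p N b ≠ layerSize p N 0 ∧
          ∀ j < b, layerSize p N j = layerSize p N 0 :=
        ⟨Nat.find hall, Nat.find_spec hall, fun j hj => by_contra fun h => Nat.find_min hall hj h⟩
      have hanti : ∀ j, layerSize p N j ≤ layerSize p N 0 := by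
        intro j
        induction j with
        | zero => exact le_rfl
        | succ j ihj => exact (layer_step hp2 hPE hN j).1.trans ihj
      have hlt : layerSize p N b < p ^ (d + 1) := (lt_of_le_of_ne (hanti b) hb).trans_le hd
      have hpd : layerSize p N b ≤ p ^ d := by
        obtain ⟨k, hk⟩ : ∃ k, layerSize p N b = p ^ k :=
          (hP.to_subgroup ((pPow p)^[b] N)).index _
        rw [hk] at hlt ⊢
        exact Nat.pow_le_pow_right hp.out.pos
          (Nat.lt_succ_iff.1 ((Nat.pow_lt_pow_iff_right hp.out.one_lt).1 hlt))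
      have h2 := ih _ (hN.iterate b) (by rwa [layerSize_iterate, zero_add])
      rw [add_mul, one_mul, add_comm, derS_add, eq_bot_iff, ← h2]
      exact derS_mono (derS_le_of_uniform hp2 hPE hN (hLie N hN) hmin) _

end CfsgLib.Alperin
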