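import Cfsg.Agent.Lib.PGroup.LieEigenGrading
import Mathlib.Algebra.Lie.Quotient
import Mathlib.Algebra.DirectSum.Basic

/-!
# Lie rings with an operator of prime order whose fixed points have bounded exponent

A multiple, bounded in terms of `p` and the exponent of the fixed points, of the Kreknin term of
the derived series is zero.
-/

set_option autoImplicit false
set_option linter.style.haveILetI false
set_option linter.unusedSectionVars false

open DirectSum
open scoped TensorProduct

namespace CfsgLib.FewFixedLie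

universe u

/-- Subgroups indexed by `ZMod p`, compatible with the bracket. -/
structure Comps (p : ℕ) (L : Type u) [LieRing L] where
  /-- The components. -/
  C : ZMod p → AddSubgroup L
  mul : ∀ i j, ∀ x ∈ C i, ∀ y ∈ C j, ⁅x, y⁆ ∈ C (i + j)

variable {p : ℕ} {L : Type u} [LieRing L] (S : Comps p L)

/-- The external sum of the components. -/
abbrev Cover : Type u := ⨁ i, (S.C i : AddSubgroup L)

/-- The inclusion of a component. -/
noncomputable abbrev inc (i : ZMod p) : S.C i →+ Cover S := DirectSum.of (fun i => ↥(S.C i)) i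

theorem inc_congr {i j : ZMod p} (h : i = j) {x : S.C i} {y : S.C j} (hxy : (x : L) = y) :
    inc S i x = inc S j y := by
  subst h
  rw [Subtype.ext hxy]

theorem inc_eq_zero {i : ZMod p} {x : S.C i} (hx : (x : L) = 0) : inc S i x = 0 := by
  rw [show x = 0 from Subtype.ext hx, map_zero]

/-- The bracket between two components. -/
noncomputable def br (i j : ZMod p) : S.C i →+ S.C j →+ Cover S :=
  AddMonoidHom.mk'
    (fun x => AddMonoidHom.mk' (fun y => inc S (i + j) ⟨⁅(x : L), (y : L)⁆, S.mul i j x x.2 y y.2⟩)
      fun y y' => by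
        rw [← map_add]
        exact congrArg _ (Subtype.ext (lie_add (x : L) (y : L) (y' : L))))
    fun x x' => by
      refine AddMonoidHom.ext fun y => ?_
      show inc S (i + j) _ = inc S (i + j) _ + inc S (i + j) _
      rw [← map_add]
      exact congrArg _ (Subtype.ext (add_lie (x : L) (x' : L) (y : L)))

/-- The bracket as a biadditive map. -/
noncomputable def brHom : Cover S →+ Cover S →+ Cover S :=
  DirectSum.toAddMonoid fun i => (DirectSum.toAddMonoid fun j => (br S i j).flip).flip

theorem brHom_inc {i j : ZMod p} (x : S.C i) (y : S.C j) :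
    brHom S (inc S i x) (inc S j y) =
      inc S (i + j) ⟨⁅(x : L), (y : L)⁆, S.mul i j x x.2 y y.2⟩ := by
  unfold brHom
  rw [DirectSum.toAddMonoid_of, AddMonoidHom.flip_apply, DirectSum.toAddMonoid_of,
    AddMonoidHom.flip_apply]
  rfl

theorem brHom_anti (x y : Cover S) : brHom S x y + brHom S y x = 0 := by
  induction x using DirectSum.induction_on with
  | zero => simp
  | of i a =>
    induction y using DirectSum.induction_on with
    | zero => simp
    | of j b =>
      rw [brHom_inc, brHom_inc,
        inc_congr S (add_comm j i) (y := ⟨⁅(b : L), (a : L)⁆, add_comm j i ▸ S.mul j i b b.2 a a.2⟩) rfl,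
        ← map_add]
      refine inc_eq_zero S ?_
      show ⁅(a : L), (b : L)⁆ + ⁅(b : L), (a : L)⁆ = 0
      rw [← lie_skew (a : L) (b : L), neg_add_cancel]
    | add c d hc hd =>
      rw [map_add, map_add, AddMonoidHom.add_apply, add_add_add_comm, hc, hd, add_zero]
  | add c d hc hd =>
    rw [map_add, AddMonoidHom.add_apply, map_add, add_add_add_comm, hc, hd, add_zero]

theorem brHom_self (x : Cover S) : brHom S x x = 0 := by
  induction x using DirectSum.induction_on with
  | zero => simp
  | of i a =>
    rw [brHom_inc]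
    exact inc_eq_zero S (lie_self (a : L))
  | add c d hc hd =>
    simp only [map_add, AddMonoidHom.add_apply, hc, hd, zero_add, add_zero]
    exact brHom_anti S _ _

theorem brHom_leibniz (x y z : Cover S) :
    brHom S x (brHom S y z) = brHom S (brHom S x y) z + brHom S y (brHom S x z) := by
  induction x using DirectSum.induction_on with
  | zero => simp
  | of i a =>
    induction y using DirectSum.induction_on with
    | zero => simp
    | of j b =>
      induction z using DirectSum.induction_on with
      | zero => simp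
      | of k c =>
        rw [brHom_inc, brHom_inc, brHom_inc, brHom_inc, brHom_inc, brHom_inc,
          inc_congr S (show i + j + k = i + (j + k) from add_assoc _ _ _)
            (y := ⟨⁅⁅(a : L), (b : L)⁆, (c : L)⁆,
              add_assoc i j k ▸ S.mul _ _ _ (S.mul _ _ _ a.2 _ b.2) _ c.2⟩) rfl,
          inc_congr S (show j + (i + k) = i + (j + k) from add_left_comm _ _ _)
            (y := ⟨⁅(b : L), ⁅(a : L), (c : L)⁆⁆,
              add_left_comm j i k ▸ S.mul _ _ _ b.2 _ (S.mul _ _ _ a.2 _ c.2)⟩) rfl,
          ← map_add]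
        exact congrArg _ (Subtype.ext (leibniz_lie (a : L) (b : L) (c : L)))
      | add c d hc hd => simp only [map_add, hc, hd]; abel
    | add c d hc hd => simp only [map_add, AddMonoidHom.add_apply, hc, hd]; abel
  | add c d hc hd => simp only [map_add, AddMonoidHom.add_apply, hc, hd]; abel

noncomputable instance instBracketCover : Bracket (Cover S) (Cover S) := ⟨fun x y => brHom S x y⟩

noncomputable instance instLieRingCover : LieRing (Cover S) where
  add_lie x y z := by show brHom S (x + y) z = _; rw [map_add]; rfl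
  lie_add x y z := by show brHom S x (y + z) = _; rw [map_add]; rfl
  lie_self x := brHom_self S x
  leibniz_lie x y z := brHom_leibniz S x y z

/-- The natural map to the Lie ring. -/
noncomputable def sumMap : Cover S →+ L := DirectSum.toAddMonoid fun i => (S.C i).subtype

theorem sumMap_inc (i : ZMod p) (x : S.C i) : sumMap S (inc S i x) = x :=
  DirectSum.toAddMonoid_of _ _ _

theorem sumMap_lie (x y : Cover S) : sumMap S ⁅x, y⁆ = ⁅sumMap S x, sumMap S y⁆ := by
  induction x using DirectSum.induction_on with
  | zero => simp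
  | of i a =>
    induction y using DirectSum.induction_on with
    | zero => simp
    | of j b =>
      show sumMap S (brHom S (inc S i a) (inc S j b)) = _
      rw [brHom_inc, sumMap_inc, sumMap_inc, sumMap_inc]
    | add c d hc hd => rw [lie_add, map_add, map_add, lie_add, hc, hd]
  | add c d hc hd => rw [add_lie, map_add, map_add, add_lie, hc, hd]

/-- The ideal killed by `q`. -/
noncomputable def killed (q : ℕ) : LieIdeal ℤ (Cover S) where
  carrier := {x | q • x = 0}
  zero_mem' := smul_zero q
  add_mem' {x y} hx hy := by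
    show q • (x + y) = 0
    rw [smul_add, show q • x = 0 from hx, show q • y = 0 from hy, add_zero]
  smul_mem' c {x} hx := by
    show q • (c • x) = 0
    rw [smul_comm, show q • x = 0 from hx, smul_zero]
  lie_mem {x m} hm := by
    show q • ⁅x, m⁆ = 0
    rw [← lie_nsmul, show q • m = 0 from hm, lie_zero]

theorem mem_killed {q : ℕ} {x : Cover S} : x ∈ killed S q ↔ q • x = 0 := Iff.rfl

/-- The quotient map, as an additive homomorphism. -/
noncomputable def mkHom (q : ℕ) : Cover S →+ Cover S ⧸ killed S q :=
  AddMonoidHom.mk' LieSubmodule.Quotient.mk fun _ _ => rfl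

theorem mkHom_eq_zero {q : ℕ} {x : Cover S} : mkHom S q x = 0 ↔ q • x = 0 :=
  (LieSubmodule.Quotient.mk_eq_zero' (N := killed S q)).trans Iff.rfl

variable [Fact p.Prime]

/-- Kreknin's theorem for the cover, modulo the killed ideal. -/
theorem nsmul_der_cover {q : ℕ} (h0 : ∀ x ∈ S.C 0, q • x = 0) {x : Cover S}
    (hx : x ∈ GradedLie.der (⊤ : AddSubgroup (Cover S)) (2 ^ (p - 1) - 1)) : q • x = 0 := by
  classical
  let M := Cover S ⧸ killed S q
  let pr : ZMod p → Cover S →+ Cover S := fun i =>
    (inc S i).comp (DFinsupp.evalAddMonoidHom i)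
  have hpr : ∀ i (x : Cover S), pr i x = inc S i (x i) := fun i x => rfl
  let proj : ZMod p → M →+ M := fun i =>
    QuotientAddGroup.lift (killed S q : Submodule ℤ (Cover S)).toAddSubgroup
      ((mkHom S q).comp (pr i)) fun y hy => by
        show mkHom S q (pr i y) = 0
        rw [mkHom_eq_zero, ← map_nsmul, show q • y = 0 from hy, map_zero]
  have hproj : ∀ i y, proj i (mkHom S q y) = mkHom S q (pr i y) := fun i y => rfl
  let gr : GradedLie.Grading p M :=
    { C := fun i => (inc S i).range.map (mkHom S q)
      proj := proj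
      zero := eq_bot_iff.2 fun y hy => by
        obtain ⟨_, ⟨a, rfl⟩, rfl⟩ := hy
        rw [AddSubgroup.mem_bot, mkHom_eq_zero, ← map_nsmul]
        exact inc_eq_zero S (h0 a a.2)
      mul := fun i j x hx y hy => by
        obtain ⟨_, ⟨a, rfl⟩, rfl⟩ := hx
        obtain ⟨_, ⟨b, rfl⟩, rfl⟩ := hy
        refine ⟨_, ⟨⟨⁅(a : L), (b : L)⁆, S.mul i j a a.2 b b.2⟩, rfl⟩, ?_⟩
        rw [← brHom_inc]
        rfl
      top := fun y => by
        obtain ⟨y, rfl⟩ : ∃ z, mkHom S q z = y :=
          Submodule.Quotient.mk_surjective (killed S q : Submodule ℤ (Cover S)) y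
        induction y using DirectSum.induction_on with
        | zero => rw [map_zero]; exact zero_mem _
        | of i a => exact AddSubgroup.mem_iSup_of_mem i ⟨_, ⟨a, rfl⟩, rfl⟩
        | add c d hc hd => rw [map_add]; exact add_mem hc hd
      proj_self := fun i y hy => by
        obtain ⟨_, ⟨a, rfl⟩, rfl⟩ := hy
        rw [hproj, hpr]
        exact congrArg _ (congrArg _ (DirectSum.of_eq_same (β := fun i => ↥(S.C i)) i a))
      proj_ne := fun i j hij y hy => by
        obtain ⟨_, ⟨a, rfl⟩, rfl⟩ := hy
        rw [hproj, hpr, DirectSum.of_eq_of_ne _ _ _ hij, map_zero, map_zero] }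
  have hmap : ∀ m, ∀ y ∈ GradedLie.der (⊤ : AddSubgroup (Cover S)) m,
      mkHom S q y ∈ GradedLie.der (⊤ : AddSubgroup M) m := by
    intro m
    induction m with
    | zero => exact fun _ _ => AddSubgroup.mem_top _
    | succ m ih =>
      intro y hy
      induction hy using AddSubgroup.closure_induction with
      | mem z hz =>
        obtain ⟨a, ha, b, hb, rfl⟩ := hz
        rw [show mkHom S q ⁅a, b⁆ = ⁅mkHom S q a, mkHom S q b⁆ from rfl]
        exact GradedLie.lie_mem_lb (ih a ha) (ih b hb)
      | zero => rw [map_zero]; exact zero_mem _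
      | add a b _ _ ia ib => rw [map_add]; exact add_mem ia ib
      | neg a _ ia => rw [map_neg]; exact neg_mem ia
  have := hmap _ x hx
  rw [GradedLie.der_top_eq_bot gr, AddSubgroup.mem_bot, mkHom_eq_zero] at this
  exact this

/-- Kreknin's theorem when the components nearly fill the Lie ring. -/
theorem nsmul_der_eq_zero {q : ℕ} (h0 : ∀ x ∈ S.C 0, q • x = 0)
    (htop : ∀ x : L, p • x ∈ ⨆ i, S.C i) {x : L}
    (hx : x ∈ GradedLie.der (⊤ : AddSubgroup L) (2 ^ (p - 1) - 1)) :
    (q * p ^ 2 ^ (2 ^ (p - 1) - 1)) • x = 0 := by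
  have key : ∀ m, ∀ y ∈ GradedLie.der (⊤ : AddSubgroup L) m,
      p ^ 2 ^ m • y ∈ (GradedLie.der (⊤ : AddSubgroup (Cover S)) m).map (sumMap S) := by
    intro m
    induction m with
    | zero =>
      intro y _
      rw [pow_zero, pow_one]
      have h := htop y
      have e : (⨆ i, S.C i) ≤ (⊤ : AddSubgroup (Cover S)).map (sumMap S) :=
        iSup_le fun i z hz => ⟨inc S i ⟨z, hz⟩, AddSubgroup.mem_top _, sumMap_inc S i _⟩
      exact e h
    | succ m ih =>
      intro y hy
      induction hy using AddSubgroup.closure_induction with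
      | mem z hz =>
        obtain ⟨a, ha, b, hb, rfl⟩ := hz
        obtain ⟨a', ha', ea⟩ := ih a ha
        obtain ⟨b', hb', eb⟩ := ih b hb
        refine ⟨⁅a', b'⁆, GradedLie.lie_mem_lb ha' hb', ?_⟩
        rw [sumMap_lie, ea, eb, lie_nsmul, nsmul_lie, ← mul_nsmul', pow_succ, pow_mul, pow_two]
      | zero => rw [smul_zero]; exact zero_mem _
      | add a b _ _ ia ib => rw [smul_add]; exact add_mem ia ib
      | neg a _ ia => rw [smul_neg]; exact neg_mem ia
  obtain ⟨x', hx', e⟩ := key _ x hx
  rw [mul_nsmul', ← e, ← map_nsmul, nsmul_der_cover S h0 hx', map_zero]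

end CfsgLib.FewFixedLie

namespace CfsgLib.LieEigen

universe u

variable (p : ℕ) [hp : Fact p.Prime] {L : Type u} [LieRing L]

theorem nsmul_eq_zero_of_ext_fixed (α : L →+ L) {q : ℕ} (hfix : ∀ x, α x = x → q • x = 0)
    {y : CycInt p ⊗[ℤ] L} (hy : ext p α y = y) : q • y = 0 := by
  set e := TensorProduct.equivFinsuppOfBasisLeft (N := L) (basisCyc p) with he
  have key : ∀ (z : CycInt p ⊗[ℤ] L) i, e (ext p α z) i = α (e z i) := by
    intro z i
    induction z using TensorProduct.induction_on with
    | zero => simp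
    | tmul a u =>
      rw [ext_tmul, he, TensorProduct.equivFinsuppOfBasisLeft_apply_tmul,
        TensorProduct.equivFinsuppOfBasisLeft_apply_tmul, Finsupp.mapRange_apply, Finsupp.mapRange_apply,
        map_zsmul]
    | add v w hv hw => simp only [map_add, Finsupp.add_apply, hv, hw]
  refine e.map_eq_zero_iff.1 (Finsupp.ext fun i => ?_)
  rw [map_nsmul, Finsupp.smul_apply]
  exact hfix _ (by rw [← key, hy])

/-- **Kreknin with few fixed points.** -/
theorem nsmul_der_of_fixed (α : L →+ L) (hlie : ∀ x y, α ⁅x, y⁆ = ⁅α x, α y⁆)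
    (hord : ∀ x, (α)^[p] x = x) {q : ℕ} (hfix : ∀ x, α x = x → q • x = 0) {x : L}
    (hx : x ∈ GradedLie.der (⊤ : AddSubgroup L) (2 ^ (p - 1) - 1)) :
    (q * p ^ 2 ^ (2 ^ (p - 1) - 1)) • x = 0 := by
  classical
  haveI : NeZero p := ⟨hp.out.ne_zero⟩
  set β := ext p α with hβ
  have hper : ∀ (m : ℕ) (x : CycInt p ⊗[ℤ] L), β^[m] x = β^[(m : ZMod p).val] x := by
    intro m x
    rw [ZMod.val_natCast]
    conv_lhs => rw [← Nat.mod_add_div m p, Function.iterate_add_apply]
    congr 1
    rw [Function.iterate_mul]
    exact Function.iterate_fixed (ext_iterate p α hord x) _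
  let S : FewFixedLie.Comps p (CycInt p ⊗[ℤ] L) :=
    { C := fun i => AddMonoidHom.ker
        (β.toAddMonoidHom - (pw p i • (LinearMap.id : CycInt p ⊗[ℤ] L →ₗ[CycInt p] _)).toAddMonoidHom)
      mul := fun i j a ha b hb => by
        rw [AddMonoidHom.mem_ker, AddMonoidHom.sub_apply, sub_eq_zero] at ha hb ⊢
        show β ⁅a, b⁆ = pw p (i + j) • ⁅a, b⁆
        rw [hβ, ext_lie p α hlie, ← hβ, show β a = pw p i • a from ha, show β b = pw p j • b from hb,
          t_lie_smul_smul, ← pw_add] }
  have hmem : ∀ i z, z ∈ S.C i ↔ β z = pw p i • z := fun i z => by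
    show β z - pw p i • z = 0 ↔ _
    exact sub_eq_zero
  have h0 : ∀ z ∈ S.C 0, q • z = 0 := fun z hz => by
    rw [hmem, pw_zero, one_smul] at hz
    exact nsmul_eq_zero_of_ext_fixed p α hfix hz
  have htop : ∀ z : CycInt p ⊗[ℤ] L, p • z ∈ ⨆ i, S.C i := by
    intro z
    let E : ZMod p → CycInt p ⊗[ℤ] L := fun a => β^[a.val] z
    have hE1 : ∀ a, β (E a) = E (a + 1) := by
      intro a
      show β (β^[a.val] z) = β^[(a + 1).val] z
      rw [← Function.iterate_succ_apply' (f := ⇑β), hper, Nat.cast_succ, ZMod.natCast_zmod_val]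
    have hsum : ∑ i : ZMod p, ∑ a : ZMod p, pw p (-(a * i)) • E a = p • z := by
      rw [Finset.sum_comm]
      simp only [← Finset.sum_smul]
      have hs : ∀ a : ZMod p, ∑ i : ZMod p, pw p (-(a * i)) = if a = 0 then (p : CycInt p) else 0 := by
        intro a
        rw [show (if a = 0 then (p : CycInt p) else 0) = if -a = 0 then (p : CycInt p) else 0 by simp,
          ← sum_pw_mul p (-a)]
        exact Finset.sum_congr rfl fun i _ => by rw [mul_neg, mul_comm]
      simp only [hs]
      rw [Finset.sum_eq_single (0 : ZMod p) (fun a _ ha => by rw [if_neg ha, zero_smul])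
        (fun h => absurd (Finset.mem_univ _) h), if_pos rfl]
      show (p : CycInt p) • β^[(0 : ZMod p).val] z = p • z
      rw [ZMod.val_zero]
      exact Nat.cast_smul_eq_nsmul _ p z
    rw [← hsum]
    refine AddSubgroup.sum_mem _ fun i _ => AddSubgroup.mem_iSup_of_mem i ((hmem i _).2 ?_)
    rw [map_sum, Finset.smul_sum]
    simp only [map_smul, hE1, smul_smul, ← pw_add]
    exact Fintype.sum_equiv (Equiv.addRight (1 : ZMod p)) _ _ fun a => by
      simp only [Equiv.coe_addRight]
      rw [show i + -((a + 1) * i) = -(a * i) by ring]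
  have hι : ∀ (m : ℕ), ∀ y ∈ GradedLie.der (⊤ : AddSubgroup L) m,
      (1 : CycInt p) ⊗ₜ[ℤ] y ∈ GradedLie.der (⊤ : AddSubgroup (CycInt p ⊗[ℤ] L)) m := by
    intro m
    induction m with
    | zero => exact fun _ _ => AddSubgroup.mem_top _
    | succ m ih =>
      intro y hy
      induction hy using AddSubgroup.closure_induction with
      | mem z hz =>
        obtain ⟨a, ha, b, hb, rfl⟩ := hz
        have h := GradedLie.lie_mem_lb (ih a ha) (ih b hb)
        rwa [LieAlgebra.ExtendScalars.bracket_tmul, one_mul] at h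
      | zero => rw [TensorProduct.tmul_zero]; exact zero_mem _
      | add a b _ _ ia ib => rw [TensorProduct.tmul_add]; exact add_mem ia ib
      | neg a _ ia => rw [TensorProduct.tmul_neg]; exact neg_mem ia
  refine one_tmul_eq_zero p ?_
  refine (map_nsmul (TensorProduct.mk ℤ (CycInt p) L 1) _ x).trans ?_
  exact FewFixedLie.nsmul_der_eq_zero S h0 htop (hι _ x hx)

end CfsgLib.LieEigen
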