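import Mathlib.GroupTheory.PGroup
import Mathlib.GroupTheory.QuotientGroup.Finite
import Mathlib.GroupTheory.Commutator.Basic
import Mathlib.Algebra.CharP.Lemmas

/-!
# Fixed points of an automorphism on sections

The number of fixed points does not grow on passing to an invariant section; an elementary abelian
section of an automorphism of order `p` is bounded by the `p`-th power of that number.
-/

set_option autoImplicit false
set_option linter.style.haveILetI false
set_option linter.unusedSectionVars false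

open Subgroup
open scoped commutatorElement

namespace CfsgLib.Alperin

universe u

variable {G : Type u} [Group G]

/-- The automorphism induced on an invariant subgroup. -/
noncomputable def rAut [Finite G] (φ : MulAut G) (H : Subgroup G) (hH : ∀ x ∈ H, φ x ∈ H) :
    MulAut H :=
  MulEquiv.ofBijective
    ({ toFun := fun x => ⟨φ x, hH x x.2⟩
       map_one' := Subtype.ext (map_one φ)
       map_mul' := fun x y => Subtype.ext (map_mul φ (x : G) y) } : H →* H)
    (Finite.injective_iff_bijective.1 fun _ _ h => Subtype.ext (φ.injective (congrArg Subtype.val h)))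

@[simp] theorem coe_rAut [Finite G] (φ : MulAut G) (H : Subgroup G) (hH : ∀ x ∈ H, φ x ∈ H) (x : H) :
    (rAut φ H hH x : G) = φ x := rfl

theorem rAut_pow [Finite G] (φ : MulAut G) (H : Subgroup G) (hH : ∀ x ∈ H, φ x ∈ H) (k : ℕ) (x : H) :
    ((rAut φ H hH ^ k) x : G) = (φ ^ k) x := by
  induction k generalizing x with
  | zero => rfl
  | succ k ih => rw [pow_succ', pow_succ', MulAut.mul_apply, MulAut.mul_apply, coe_rAut, ih]

theorem map_eq_of_invariant [Finite G] (φ : MulAut G) {N : Subgroup G} (hN : ∀ x ∈ N, φ x ∈ N) :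
    N.map (φ : G ≃* G) = N :=
  eq_of_le_of_card_ge (by rintro _ ⟨x, hx, rfl⟩; exact hN x hx)
    (card_map_of_injective (f := ((φ : G ≃* G) : G →* G)) φ.injective).ge

/-- The automorphism induced on a quotient. -/
noncomputable def qAut [Finite G] (φ : MulAut G) (N : Subgroup G) [N.Normal]
    (hN : ∀ x ∈ N, φ x ∈ N) : MulAut (G ⧸ N) :=
  QuotientGroup.congr N N φ (map_eq_of_invariant φ hN)

theorem qAut_mk [Finite G] (φ : MulAut G) (N : Subgroup G) [N.Normal] (hN : ∀ x ∈ N, φ x ∈ N)
    (x : G) : qAut φ N hN (x : G ⧸ N) = ((φ x : G) : G ⧸ N) := rfl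

theorem qAut_pow [Finite G] (φ : MulAut G) (N : Subgroup G) [N.Normal] (hN : ∀ x ∈ N, φ x ∈ N)
    (k : ℕ) (x : G) : (qAut φ N hN ^ k) (x : G ⧸ N) = (((φ ^ k) x : G) : G ⧸ N) := by
  induction k generalizing x with
  | zero => rfl
  | succ k ih => rw [pow_succ', pow_succ', MulAut.mul_apply, MulAut.mul_apply, ih, qAut_mk]

theorem card_fixed_rAut_le [Finite G] (φ : MulAut G) (H : Subgroup G) (hH : ∀ x ∈ H, φ x ∈ H) :
    Nat.card {x : H // rAut φ H hH x = x} ≤ Nat.card {g : G // φ g = g} :=
  Nat.card_le_card_of_injective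
    (fun x => ⟨(x.1 : G), by rw [← coe_rAut φ H hH, x.2]⟩)
    fun _ _ h => Subtype.ext (Subtype.ext (congrArg Subtype.val h :))

/-- Fixed points on a quotient by an invariant normal subgroup. -/
theorem card_fixed_qAut_le [Finite G] (φ : MulAut G) (N : Subgroup G) [N.Normal]
    (hN : ∀ x ∈ N, φ x ∈ N) :
    Nat.card {x : G ⧸ N // qAut φ N hN x = x} ≤ Nat.card {g : G // φ g = g} := by
  let Q : Set (G ⧸ N) := {x | qAut φ N hN x = x}
  let T : Set G := QuotientGroup.mk ⁻¹' Q
  have hT : ∀ g, g ∈ T ↔ g⁻¹ * φ g ∈ N := fun g => by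
    show qAut φ N hN (g : G ⧸ N) = g ↔ _
    rw [qAut_mk, eq_comm, QuotientGroup.eq]
  have hcard : Nat.card T = Nat.card N * Nat.card Q := by
    rw [Nat.card_congr (QuotientGroup.preimageMkEquivSubgroupProdSet N Q), Nat.card_prod]
  classical
  have hex : ∀ t : T, ∃ s : T, (s : G)⁻¹ * φ s = (t : G)⁻¹ * φ t := fun t => ⟨t, rfl⟩
  let rep : N → G := fun m =>
    if h : ∃ s : T, (s : G)⁻¹ * φ s = m then (h.choose : G) else 1
  have hle : Nat.card T ≤ Nat.card (N × {g : G // φ g = g}) := by
    refine Nat.card_le_card_of_injective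
      (fun t => (⟨(t : G)⁻¹ * φ t, (hT t).1 t.2⟩,
        ⟨(t : G) * (rep ⟨(t : G)⁻¹ * φ t, (hT t).1 t.2⟩)⁻¹, ?_⟩)) ?_
    · have h : ∃ s : T, (s : G)⁻¹ * φ s = (t : G)⁻¹ * φ t := hex t
      simp only [rep, dif_pos h]
      generalize hs : (h.choose : G) = s
      have e : s⁻¹ * φ s = (t : G)⁻¹ * φ t := hs ▸ h.choose_spec
      rw [inv_mul_eq_iff_eq_mul] at e
      rw [map_mul, map_inv, e]
      group
    · intro t t' e
      simp only [Prod.mk.injEq, Subtype.mk.injEq] at e
      obtain ⟨e1, e2⟩ := e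
      have e3 : (⟨(t : G)⁻¹ * φ t, (hT t).1 t.2⟩ : N) = ⟨(t' : G)⁻¹ * φ t', (hT t').1 t'.2⟩ :=
        Subtype.ext e1
      rw [e3] at e2
      exact Subtype.ext (mul_right_cancel e2)
  rw [hcard, Nat.card_prod] at hle
  exact Nat.le_of_mul_le_mul_left hle Nat.card_pos

/-- An element fixed modulo `B` has its `p ^ n`-th power in `B`. -/
theorem pow_mem_of_fixed_mod [Finite G] {p : ℕ} [hp : Fact p.Prime] (hG : IsPGroup p G)
    (φ : MulAut G) {n : ℕ} (hn : Nat.card {g : G // φ g = g} ≤ p ^ n) {B : Subgroup G} [B.Normal]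
    (hB : ∀ x ∈ B, φ x ∈ B) {a : G} (ha : a⁻¹ * φ a ∈ B) : a ^ p ^ n ∈ B := by
  let C : Subgroup (G ⧸ B) :=
    MonoidHom.eqLocus ((qAut φ B hB : (G ⧸ B) ≃* (G ⧸ B)) : (G ⧸ B) →* G ⧸ B) (MonoidHom.id _)
  have hC : ∀ x, x ∈ C ↔ qAut φ B hB x = x := fun x => Iff.rfl
  have haC : (a : G ⧸ B) ∈ C := by
    rw [hC, qAut_mk, eq_comm, QuotientGroup.eq]
    exact ha
  obtain ⟨k, hk⟩ := ((hG.to_quotient B).to_subgroup C).exists_card_eq
  have hcard : Nat.card C ≤ p ^ n :=
    ((Nat.card_congr (Equiv.subtypeEquivRight hC)).le.trans (card_fixed_qAut_le φ B hB)).trans hn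
  have h1 : orderOf (a : G ⧸ B) ∣ p ^ n := by
    refine (orderOf_dvd_natCard _ haC).trans ?_
    rw [hk] at hcard ⊢
    exact pow_dvd_pow p ((Nat.pow_le_pow_iff_right hp.out.one_lt).1 hcard)
  rw [← QuotientGroup.eq_one_iff, QuotientGroup.mk_pow]
  exact orderOf_dvd_iff_pow_eq_one.1 h1

/-- An elementary abelian group with an automorphism of order `p` is small if it has few fixed
points. -/
theorem card_le_of_elementary {W : Type u} [CommGroup W] [Finite W] {p : ℕ} [hp : Fact p.Prime]
    (hexp : ∀ w : W, w ^ p = 1) (φ : MulAut W) (hφ : φ ^ p = 1) {N : ℕ}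
    (hN : Nat.card {w : W // φ w = w} ≤ N) : Nat.card W ≤ N ^ p := by
  let δ : W → W := fun w => w⁻¹ * φ w
  have hδ : ∀ a b, δ (a * b) = δ a * δ b := fun a b => by
    simp only [δ, map_mul, mul_inv]
    exact mul_mul_mul_comm _ _ _ _
  have hp0 : δ^[p] = fun _ => (1 : W) := by
    let A : AddMonoid.End (Additive W) := (φ : W ≃* W).toMonoidHom.toAdditive
    let D : AddMonoid.End (Additive W) := A - 1
    have hA : ∀ k (w : W), (A ^ k) (Additive.ofMul w) = Additive.ofMul ((φ ^ k) w) := by
      intro k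
      induction k with
      | zero => exact fun _ => rfl
      | succ k ih =>
        intro w
        rw [pow_succ', pow_succ', AddMonoid.End.coe_mul, Function.comp_apply, ih]
        rfl
    have hA1 : A ^ p = 1 := by
      ext x
      obtain ⟨w, rfl⟩ := Additive.ofMul.surjective x
      rw [hA, hφ]
      rfl
    obtain ⟨r, hr⟩ := Commute.exists_add_pow_prime_eq hp.out (Commute.one_right D)
    rw [show D + 1 = A from sub_add_cancel A 1, hA1, one_pow] at hr
    have hD : ∀ k (w : W), (D ^ k) (Additive.ofMul w) = Additive.ofMul (δ^[k] w) := by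
      intro k
      induction k with
      | zero => exact fun _ => rfl
      | succ k ih =>
        intro w
        rw [pow_succ', AddMonoid.End.coe_mul, Function.comp_apply, ih,
          Function.iterate_succ_apply']
        show Additive.ofMul (φ (δ^[k] w)) - Additive.ofMul (δ^[k] w) = _
        simp only [δ, sub_eq_add_neg, ofMul_mul, ofMul_inv]
        exact add_comm _ _
    have hp' : ∀ f : AddMonoid.End (Additive W), (p : AddMonoid.End (Additive W)) * f = 0 := by
      intro f
      rw [← nsmul_eq_mul]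
      refine AddMonoidHom.ext fun x => ?_
      show p • f x = 0
      rw [← ofMul_toMul (f x), ← ofMul_pow, hexp]
      rfl
    rw [mul_assoc, mul_assoc, hp', add_zero] at hr
    funext w
    have h := congrArg (fun F : AddMonoid.End (Additive W) => F (Additive.ofMul w))
      (left_eq_add.1 (hr.trans (add_comm _ _)))
    rw [hD] at h
    exact congrArg Additive.toMul h
  have hstep : ∀ i, Nat.card {w : W // δ^[i] w = 1} ≤ N ^ i := by
    intro i
    induction i with
    | zero =>
      rw [pow_zero]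
      haveI : Subsingleton {w : W // δ^[0] w = 1} := ⟨fun a b => Subtype.ext (a.2.trans b.2.symm)⟩
      exact Finite.card_le_one_iff_subsingleton.2 this
    | succ i ih =>
      classical
      let rep : W → W := fun m => if h : ∃ s, δ s = m then h.choose else 1
      have hrep : ∀ w, δ (rep (δ w)) = δ w := fun w => by
        simp only [rep, dif_pos (⟨w, rfl⟩ : ∃ s, δ s = δ w)]
        exact (⟨w, rfl⟩ : ∃ s, δ s = δ w).choose_spec
      have h1 : Nat.card {w : W // δ^[i + 1] w = 1} ≤
          Nat.card ({w : W // φ w = w} × {w : W // δ^[i] w = 1}) := by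
        refine Nat.card_le_card_of_injective
          (fun w => (⟨w.1 * (rep (δ w.1))⁻¹, ?_⟩, ⟨δ w.1, w.2⟩)) ?_
        · have e : δ (w.1 * (rep (δ w.1))⁻¹ * rep (δ w.1)) = δ w.1 := by
            rw [inv_mul_cancel_right]
          rw [hδ, hrep, mul_eq_right, inv_mul_eq_one] at e
          exact e.symm
        · intro a b e
          simp only [Prod.mk.injEq, Subtype.mk.injEq] at e
          obtain ⟨e1, e2⟩ := e
          have e2' : δ a.1 = δ b.1 := congrArg Subtype.val e2
          rw [e2'] at e1
          exact Subtype.ext (mul_right_cancel e1)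
      rw [Nat.card_prod] at h1
      rw [pow_succ']
      exact h1.trans (Nat.mul_le_mul hN ih)
  refine le_of_eq_of_le ?_ (hstep p)
  exact (Nat.card_congr (Equiv.subtypeUnivEquiv fun w => congrFun hp0 w)).symm

end CfsgLib.Alperin
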