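import Cfsg.Agent.Lib.PGroup.Alperin.Powerful
import Cfsg.Agent.Lib.PGroup.Alperin.Section
import Cfsg.Agent.Lib.PGroup.Alperin.FiltrationLie
import Cfsg.Agent.Lib.PGroup.Alperin.FewFixedLie

/-!
# Alperin's theorem for groups of odd prime power order

A `p`-group with an automorphism of order `p` with at most `p ^ n` fixed points has derived length
bounded in terms of `p` and `n`.
-/

set_option autoImplicit false
set_option linter.style.haveILetI false
set_option linter.unusedSectionVars false

open Subgroup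
open scoped commutatorElement

namespace CfsgLib.Alperin

universe u

variable {P : Type u} [Group P]

/-- The derived series reaches the bottom within the group order. -/
theorem derivedSeries_eq_bot_of_card_le {H : Type u} [Group H] [Finite H] [Group.IsSolvable H]
    {M : ℕ} (hM : Nat.card H ≤ M) : derivedSeries H M = ⊥ := by
  obtain ⟨k, hk⟩ := (isSolvable_def H).1 inferInstance
  have hstab : ∀ j, derivedSeries H j ≤ derivedSeries H (j + 1) → derivedSeries H j = ⊥ := by
    intro j hj
    have h1 : ∀ i, derivedSeries H j ≤ derivedSeries H (j + i) := by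
      intro i
      induction i with
      | zero => exact le_rfl
      | succ i ih =>
        refine hj.trans ?_
        rw [derivedSeries_succ, ← add_assoc, derivedSeries_succ]
        exact commutator_mono ih ih
    refine eq_bot_iff.2 ((h1 k).trans ?_)
    rw [← hk]
    exact derivedSeries_antitone H (Nat.le_add_left k j)
  have key : ∀ j, derivedSeries H j = ⊥ ∨ Nat.card (derivedSeries H j) + j ≤ Nat.card H := by
    intro j
    induction j with
    | zero => exact Or.inr (by rw [derivedSeries_zero, card_top, add_zero])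
    | succ j ih =>
      rcases ih with h | h
      · exact Or.inl (eq_bot_iff.2 ((derivedSeries_antitone H j.le_succ).trans h.le))
      · by_cases he : derivedSeries H j = ⊥
        · exact Or.inl (eq_bot_iff.2 ((derivedSeries_antitone H j.le_succ).trans he.le))
        · refine Or.inr ?_
          have hlt : Nat.card (derivedSeries H (j + 1)) < Nat.card (derivedSeries H j) := by
            refine lt_of_le_of_ne (Subgroup.card_le_of_le (derivedSeries_antitone H j.le_succ))
              fun e => he (hstab j ?_)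
            exact (eq_of_le_of_card_ge (derivedSeries_antitone H j.le_succ) e.ge).ge
          omega
  rcases key M with h | h
  · exact h
  · have := Nat.card_pos (α := derivedSeries H M)
    omega

theorem derS_eq_map (N : Subgroup P) :
    ∀ j, derS N j = (derivedSeries N j).map N.subtype := by
  intro j
  induction j with
  | zero =>
    rw [derS_zero, derivedSeries_zero, ← MonoidHom.range_eq_map, Subgroup.range_subtype]
  | succ j ih => rw [derS_succ, derivedSeries_succ, map_commutator, ih]

theorem derS_top (j : ℕ) : derS (⊤ : Subgroup P) j = derivedSeries P j := by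
  induction j with
  | zero => rfl
  | succ j ih => rw [derS_succ, derivedSeries_succ, ih]

/-- A normal elementary abelian section of bounded size. -/
structure Sec (p R : ℕ) (A B : Subgroup P) : Prop where
  normalA : A.Normal
  normalB : B.Normal
  pow : ∀ a ∈ A, a ^ p ∈ B
  comm : ⁅A, A⁆ ≤ B
  small : B.relIndex A ≤ R

/-- The common centralizer of the small sections. -/
def smallCent (P : Type u) [Group P] (p R : ℕ) : Subgroup P where
  carrier := {v | ∀ A B : Subgroup P, Sec p R A B → ∀ a ∈ A, ⁅a, v⁆ ∈ B}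
  one_mem' A B h a _ := by rw [commutatorElement_one_right]; exact one_mem B
  mul_mem' {v w} hv hw A B h a ha := by
    rw [show ⁅a, v * w⁆ = ⁅a, v⁆ * (v * ⁅a, w⁆ * v⁻¹) by simp only [commutatorElement_def]; group]
    exact mul_mem (hv A B h a ha) (h.normalB.conj_mem _ (hw A B h a ha) v)
  inv_mem' {v} hv A B h a ha := by
    rw [show ⁅a, v⁻¹⁆ = v⁻¹ * ⁅a, v⁆⁻¹ * v⁻¹⁻¹ by simp only [commutatorElement_def]; group]
    exact h.normalB.conj_mem _ (inv_mem (hv A B h a ha)) v⁻¹

theorem good_smallCent (β : MulAut P) (p R : ℕ) :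
    Good β (smallCent P p R) (smallCent P p R) where
  le := le_rfl
  normal := ⟨fun v hv g A B h a ha => by
    rw [show ⁅a, g * v * g⁻¹⁆ = g * ⁅g⁻¹ * a * g⁻¹⁻¹, v⁆ * g⁻¹ by
      simp only [commutatorElement_def]; group]
    exact h.normalB.conj_mem _ (hv A B h _ (h.normalA.conj_mem a ha g⁻¹)) g⟩
  inv v hv A B h a ha := by
    let f : P →* P := ((β : P ≃* P) : P →* P)
    have hs : Function.Surjective f := β.surjective
    haveI := h.normalA
    haveI := h.normalB
    have h' : Sec p R (A.comap f) (B.comap f) :=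
      { normalA := inferInstance
        normalB := inferInstance
        pow := fun x hx => by
          show f (x ^ p) ∈ B
          rw [map_pow]
          exact h.pow _ hx
        comm := by
          rw [← map_le_iff_le_comap, map_commutator, map_comap_eq_self_of_surjective hs]
          exact h.comm
        small := by
          rw [relIndex_comap, map_comap_eq_self_of_surjective hs]
          exact h.small }
    obtain ⟨a', rfl⟩ := hs a
    have := hv _ _ h' a' ha
    rw [show ⁅f a', β v⁆ = f ⁅a', v⁆ from (map_commutatorElement f a' v).symm]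
    exact this

/-- A bounded term of the derived series centralizes the small sections. -/
theorem derivedSeries_le_smallCent [Finite P] {p R : ℕ} [hp : Fact p.Prime] (hP : IsPGroup p P) :
    derivedSeries P R.factorial ≤ smallCent P p R := by
  haveI : Group.IsNilpotent P := hP.isNilpotent
  intro v hv A B h a ha
  haveI := h.normalA
  haveI := h.normalB
  let π := QuotientGroup.mk' B
  haveI : (A.map π).Normal := h.normalA.map π (QuotientGroup.mk'_surjective B)
  let θ : P →* MulAut (A.map π) := (MulAut.conjNormal (H := A.map π)).comp π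
  have hcard : Nat.card θ.range ≤ R.factorial := by
    have h1 : Nat.card (A.map π) ≤ R := by
      rw [← Subgroup.relIndex_ker, QuotientGroup.ker_mk']
      exact h.small
    haveI : Finite (Equiv.Perm (A.map π)) := inferInstance
    refine (Nat.card_le_card_of_injective
      (fun x : θ.range => ((x : MulAut (A.map π)) : A.map π ≃* A.map π).toEquiv) ?_).trans ?_
    · intro x y e
      exact Subtype.ext (MulEquiv.toEquiv_injective e)
    · rw [Nat.card_perm]
      exact Nat.factorial_le h1
  haveI : Group.IsSolvable θ.range :=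
    Group.isSolvable_of_surjective θ.rangeRestrict_surjective
  have hbot := derivedSeries_eq_bot_of_card_le hcard
  have h2 : θ.rangeRestrict v ∈ derivedSeries θ.range R.factorial :=
    map_derivedSeries_le_derivedSeries θ.rangeRestrict _ (mem_map_of_mem _ hv)
  rw [hbot, mem_bot] at h2
  have h3 : θ v ⟨π a, mem_map_of_mem π ha⟩ = ⟨π a, mem_map_of_mem π ha⟩ := by
    rw [show θ v = 1 from congrArg Subtype.val h2]
    rfl
  have h4 : π v * π a * (π v)⁻¹ = π a := congrArg Subtype.val h3
  rw [← QuotientGroup.eq_one_iff, ← QuotientGroup.mk'_apply, map_commutatorElement,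
    commutatorElement_eq_one_iff_mul_comm]
  exact (mul_inv_eq_iff_eq_mul.1 h4).symm

variable [Finite P] {p : ℕ} [hp : Fact p.Prime]

/-- A maximal normal step inside a normal subgroup. -/
theorem exists_step (hP : IsPGroup p P) {T M : Subgroup P} [T.Normal] [M.Normal] (hTM : T < M) :
    ∃ M₁ : Subgroup P, M₁.Normal ∧ T ≤ M₁ ∧ M₁ < M ∧ ∃ x ∈ M, M₁ ⊔ zpowers x = M := by
  haveI : Group.IsNilpotent P := hP.isNilpotent
  obtain ⟨M₁, ⟨hn, hT, hlt⟩, hmax⟩ :=
    (Set.toFinite {X : Subgroup P | X.Normal ∧ T ≤ X ∧ X < M}).exists_maximal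
      ⟨T, inferInstance, le_rfl, hTM⟩
  haveI := hn
  have hcomm : ⁅M, (⊤ : Subgroup P)⁆ ≤ M₁ := by
    by_cases he : M ≤ M₁ ⊔ ⁅M, (⊤ : Subgroup P)⁆
    · exact absurd (le_of_le_sup_commutator he) hlt.not_ge
    · refine le_sup_right.trans (hmax ⟨inferInstance, hT.trans le_sup_left, ?_⟩ le_sup_left)
      exact lt_of_le_of_ne (sup_le hlt.le (commutator_le_left M ⊤)) fun e => he e.ge
  obtain ⟨x, hx, hx1⟩ := SetLike.exists_of_lt hlt
  refine ⟨M₁, hn, hT, hlt, x, hx, ?_⟩
  have hXn : (M₁ ⊔ zpowers x).Normal := ⟨fun m hm g => by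
    have hmM : m ∈ M := sup_le hlt.le (zpowers_le.2 hx) hm
    rw [show g * m * g⁻¹ = ⁅m, g⁆⁻¹ * m by simp only [commutatorElement_def]; group]
    exact mul_mem (inv_mem (mem_sup_left (hcomm (commutator_mem_commutator hmM (mem_top g))))) hm⟩
  by_contra hne
  exact hx1 (hmax ⟨hXn, hT.trans le_sup_left,
    lt_of_le_of_ne (sup_le hlt.le (zpowers_le.2 hx)) hne⟩ le_sup_left
    (mem_sup_right (mem_zpowers x)))

theorem commutator_le_of_step {T M M₁ V : Subgroup P} [T.Normal] (hMV : M ≤ V)
    (h1 : ⁅M₁, V⁆ ≤ T) {x : P} (hxM : x ∈ M) (hgen : M₁ ⊔ zpowers x = M) : ⁅M, M⁆ ≤ T := by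
  let π := QuotientGroup.mk' T
  let C : Subgroup P := (centralizer ((M.map π : Subgroup (P ⧸ T)) : Set (P ⧸ T))).comap π
  have hC : ∀ z, z ∈ C ↔ ∀ m ∈ M, Commute (π m) (π z) := by
    intro z
    constructor
    · exact fun h m hm => (mem_centralizer_iff.1 h _ (mem_map_of_mem π hm))
    · rintro h _ ⟨m, hm, rfl⟩
      exact h m hm
  have hcomm : ∀ a ∈ M₁, ∀ v ∈ V, Commute (π a) (π v) := by
    intro a ha v hv
    rw [← commutatorElement_eq_one_iff_commute, ← map_commutatorElement]
    exact (QuotientGroup.eq_one_iff _).2 (h1 (commutator_mem_commutator ha hv))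
  have hM₁ : M₁ ≤ C := fun a ha => (hC a).2 fun m hm => (hcomm a ha m (hMV hm)).symm
  have hxC : x ∈ C := by
    rw [hC]
    intro m hm
    rw [← hgen] at hm
    have hle : M₁ ⊔ zpowers x ≤ (centralizer ({π x} : Set (P ⧸ T))).comap π :=
      sup_le (fun a ha => mem_centralizer_singleton_iff.2 (hcomm a ha x (hMV hxM)).eq)
        (zpowers_le.2 (mem_centralizer_singleton_iff.2 rfl))
    exact mem_centralizer_singleton_iff.1 (hle hm)
  have hM : M ≤ C := hgen ▸ sup_le hM₁ (zpowers_le.2 hxC)
  rw [commutator_le]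
  intro a ha b hb
  rw [← QuotientGroup.eq_one_iff, ← QuotientGroup.mk'_apply, map_commutatorElement]
  exact commutatorElement_eq_one_iff_commute.2 ((hC b).1 (hM hb) a ha)

/-- A small section of exponent `p` inside `smallCent` is centralized by it. -/
theorem small_central (hP : IsPGroup p P) {R : ℕ} :
    ∀ s, ∀ T M : Subgroup P, T.Normal → M.Normal → T ≤ M → M ≤ smallCent P p R →
      (∀ x ∈ M, x ^ p ∈ T) → T.relIndex M = s → s ≤ R → ⁅M, smallCent P p R⁆ ≤ T := by
  intro s
  induction s using Nat.strong_induction_on with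
  | _ s ih =>
    intro T M hT hM hTM hMV hpow hs hR
    haveI := hT
    haveI := hM
    by_cases he : T = M
    · subst he
      exact commutator_le_left T _
    obtain ⟨M₁, hn, hT1, hlt, x, hx, hgen⟩ := exists_step hP (lt_of_le_of_ne hTM he)
    have hmul := relIndex_mul_relIndex T M₁ M hT1 hlt.le
    have hne : M₁.relIndex M ≠ 1 := fun e => hlt.not_ge (relIndex_eq_one.1 e)
    have hpos : M₁.relIndex M ≠ 0 := Subgroup.index_ne_zero_of_finite
    have hpos' : T.relIndex M₁ ≠ 0 := Subgroup.index_ne_zero_of_finite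
    have hlts : T.relIndex M₁ < s := by
      rw [← hs, ← hmul]
      exact lt_mul_of_one_lt_right (Nat.pos_of_ne_zero hpos') (by omega)
    have h1 : ⁅M₁, smallCent P p R⁆ ≤ T :=
      ih _ hlts T M₁ hT hn hT1 (hlt.le.trans hMV) (fun z hz => hpow z (hlt.le hz)) rfl
        (hlts.le.trans hR)
    have hsec : Sec p R M T :=
      ⟨hM, hT, hpow, commutator_le_of_step hMV h1 hx hgen, hs ▸ hR⟩
    rw [commutator_le]
    exact fun a ha v hv => hv M T hsec a ha

variable (β : MulAut P)

/-- The sections of invariant normal subgroups by their Frattini subgroups are small. -/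
theorem frattini_section_le (hβ : β ^ p = 1) {n : ℕ}
    (hn : Nat.card {g : P // β g = g} ≤ p ^ n) {N : Subgroup P} (hN : N.Normal)
    (hinv : ∀ x ∈ N, β x ∈ N) : (pPow p N ⊔ ⁅N, N⁆).relIndex N ≤ (p ^ n) ^ p := by
  set B := pPow p N ⊔ ⁅N, N⁆ with hB
  have hgood : Good β N N := ⟨hN, le_rfl, hinv⟩
  haveI := (hgood.pPow (p := p)).normal
  haveI := (hgood.commutator hgood).normal
  let B' := B.subgroupOf N
  have hB' : ∀ x ∈ B', rAut β N hinv x ∈ B' := by
    intro x hx
    show β (x : P) ∈ B
    have h : B.map ((β : P ≃* P) : P →* P) ≤ B := by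
      rw [hB, Subgroup.map_sup]
      refine sup_le_sup ?_ ?_
      · rintro _ ⟨z, hz, rfl⟩; exact hgood.pPow.inv z hz
      · rintro _ ⟨z, hz, rfl⟩; exact (hgood.commutator hgood).inv z hz
    exact h (mem_map_of_mem _ hx)
  letI : CommGroup (N ⧸ B') :=
    { (inferInstance : Group (N ⧸ B')) with
      mul_comm := by
        intro a b
        induction a using QuotientGroup.induction_on with
        | _ a =>
          induction b using QuotientGroup.induction_on with
          | _ b =>
            rw [← QuotientGroup.mk_mul, ← QuotientGroup.mk_mul, QuotientGroup.eq, mem_subgroupOf]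
            refine mem_sup_right ?_
            have h : ⁅(b : P)⁻¹, (a : P)⁻¹⁆ ∈ ⁅N, N⁆ :=
              commutator_mem_commutator (inv_mem b.2) (inv_mem a.2)
            simpa [commutatorElement_def, mul_assoc] using h }
  have hexp : ∀ w : N ⧸ B', w ^ p = 1 := by
    intro w
    induction w using QuotientGroup.induction_on with
    | _ x =>
      rw [← QuotientGroup.mk_pow, QuotientGroup.eq_one_iff, mem_subgroupOf, SubgroupClass.coe_pow]
      exact mem_sup_left (pow_mem_pPow x.2)
  have hord : (qAut (rAut β N hinv) B' hB') ^ p = 1 := by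
    refine MulEquiv.ext fun w => ?_
    induction w using QuotientGroup.induction_on with
    | _ x =>
      rw [qAut_pow, MulAut.one_apply]
      refine congrArg QuotientGroup.mk (Subtype.ext ?_)
      rw [rAut_pow, hβ, MulAut.one_apply]
  exact card_le_of_elementary hexp _ hord
    ((card_fixed_qAut_le _ B' hB').trans ((card_fixed_rAut_le β N hinv).trans hn))

/-- Invariant normal subgroups inside `smallCent` are powerfully embedded in it. -/
theorem commutator_le_pPow (hP : IsPGroup p P) (hβ : β ^ p = 1) {n : ℕ}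
    (hn : Nat.card {g : P // β g = g} ≤ p ^ n) {N : Subgroup P}
    (hN : Good β (smallCent P p ((p ^ n) ^ p)) N) :
    ⁅N, smallCent P p ((p ^ n) ^ p)⁆ ≤ pPow p N := by
  haveI : Group.IsNilpotent P := hP.isNilpotent
  set R := (p ^ n) ^ p with hR
  set V := smallCent P p R with hV
  have hfr := frattini_section_le β hβ hn hN.normal hN.inv
  haveI := hN.normal
  haveI := (good_smallCent β p R).normal
  by_contra hnot
  obtain ⟨T, ⟨hTn, hTp, hTN, hTc⟩, hmax⟩ :=
    (Set.toFinite {X : Subgroup P | X.Normal ∧ pPow p N ≤ X ∧ X ≤ N ∧ ¬ ⁅N, V⁆ ≤ X}).exists_maximal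
      ⟨pPow p N, hN.pPow.normal, le_rfl, pPow_le N, hnot⟩
  haveI := hTn
  have hcN : ⁅N, V⁆ ≤ N := commutator_le_left N V
  have hcc : ⁅⁅N, V⁆, (⊤ : Subgroup P)⁆ ≤ T := by
    by_cases hh : ⁅N, V⁆ ≤ T ⊔ ⁅⁅N, V⁆, (⊤ : Subgroup P)⁆
    · exact absurd (le_of_le_sup_commutator hh) hTc
    · exact le_sup_right.trans (hmax ⟨inferInstance, hTp.trans le_sup_left,
        sup_le hTN ((commutator_le_left _ _).trans hcN), hh⟩ le_sup_left)
  have hNN : ⁅N, N⁆ ≤ ⁅N, V⁆ := commutator_mono le_rfl hN.le
  have hsec : Sec p R N (T ⊔ ⁅N, N⁆) :=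
    { normalA := inferInstance
      normalB := inferInstance
      pow := fun a ha => mem_sup_left (hTp (pow_mem_pPow ha))
      comm := le_sup_right
      small := (Subgroup.relIndex_le_of_le_left (sup_le_sup_right hTp _)
        Subgroup.index_ne_zero_of_finite).trans hfr }
  have hcsub : ⁅N, V⁆ ≤ T ⊔ ⁅N, N⁆ := by
    rw [commutator_le]
    exact fun a ha v hv => hv N _ hsec a ha
  have hNT : ¬ ⁅N, N⁆ ≤ T := fun h => hTc (hcsub.trans (sup_le le_rfl h))
  obtain ⟨x, hx, hxT⟩ := SetLike.not_le_iff_exists.1 hTc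
  have hL : ⁅N, V⁆ ≤ T ⊔ zpowers x := by
    by_contra hh
    refine hxT (hmax ⟨⟨fun m hm g => ?_⟩, hTp.trans le_sup_left,
      sup_le hTN (zpowers_le.2 (hcN hx)), hh⟩ le_sup_left (mem_sup_right (mem_zpowers x)))
    obtain ⟨t, ht, y, hy, rfl⟩ := mem_sup_of_normal_left.1 hm
    have hyc : y ∈ ⁅N, V⁆ := zpowers_le.2 hx hy
    rw [show g * (t * y) * g⁻¹ = g * t * g⁻¹ * ⁅y, g⁆⁻¹ * y by
      simp only [commutatorElement_def]; group]
    exact mul_mem (mem_sup_left (mul_mem (hTn.conj_mem t ht g)
      (inv_mem (hcc (commutator_mem_commutator hyc (mem_top g)))))) (mem_sup_right hy)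
  set L := T ⊔ ⁅N, V⁆ with hLdef
  have hLN : L ≤ N := sup_le hTN hcN
  have hTL : T.relIndex L ≤ p := by
    refine (le_of_le_of_eq (Subgroup.relIndex_le_of_le_right (sup_le le_sup_left hL)
      Subgroup.index_ne_zero_of_finite) ?_).trans (le_refl p)
    rw [sup_comm, Subgroup.relIndex_sup_right, ← QuotientGroup.ker_mk' T, Subgroup.relIndex_ker,
      MonoidHom.map_zpowers, Nat.card_zpowers]
    refine orderOf_eq_prime ?_ ?_
    · rw [← map_pow]; exact (QuotientGroup.eq_one_iff _).2 (hTp (pow_mem_pPow (hcN hx)))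
    · exact fun h => hxT ((QuotientGroup.eq_one_iff _).1 h)
  have hLne : L ≠ N := by
    intro e
    refine hNT ((commutator_le_left N N).trans (le_of_le_sup_commutator (A := T) ?_))
    exact (e.ge.trans (sup_le le_sup_left hcsub)).trans
      (sup_le_sup_left (commutator_mono le_rfl le_top) T)
  obtain ⟨M₁, hn1, hL1, hlt, y, hy, hgen⟩ := exists_step hP (lt_of_le_of_ne hLN hLne)
  have hLR : L.relIndex N ≤ R :=
    (Subgroup.relIndex_le_of_le_left (sup_le (hTp.trans le_sup_left) (hNN.trans le_sup_right))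
      Subgroup.index_ne_zero_of_finite).trans hfr
  have hTM1 : T.relIndex M₁ ≤ R := by
    have h1 := relIndex_mul_relIndex T M₁ N (le_sup_left.trans hL1) hlt.le
    have h2 := relIndex_mul_relIndex T L N le_sup_left hLN
    obtain ⟨k, hk⟩ : ∃ k, M₁.relIndex N = p ^ k := (hP.to_subgroup N).index _
    have hk0 : k ≠ 0 := by
      rintro rfl
      exact hlt.not_ge (relIndex_eq_one.1 (hk.trans (pow_zero p)))
    have h3 : p ≤ M₁.relIndex N := hk ▸ Nat.le_self_pow hk0 p
    have h4 : T.relIndex M₁ * p ≤ R * p :=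
      calc T.relIndex M₁ * p ≤ T.relIndex M₁ * M₁.relIndex N := Nat.mul_le_mul le_rfl h3
        _ = T.relIndex L * L.relIndex N := h1.trans h2.symm
        _ ≤ p * R := Nat.mul_le_mul hTL hLR
        _ = R * p := mul_comm _ _
    exact Nat.le_of_mul_le_mul_right h4 hp.out.pos
  have h1 := small_central hP _ T M₁ hTn hn1 (le_sup_left.trans hL1) (hlt.le.trans hN.le)
    (fun z hz => hTp (pow_mem_pPow (hlt.le hz))) rfl hTM1
  exact hNT (commutator_le_of_step hN.le h1 hy hgen)

/-- The Lie step. -/
theorem pow_mem_of_derS (hp2 : p ≠ 2) (hP : IsPGroup p P) (hβ : β ^ p = 1) {n : ℕ}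
    (hn : Nat.card {g : P // β g = g} ≤ p ^ n) {V N : Subgroup P}
    (hPE : ∀ N, Good β V N → ⁅N, V⁆ ≤ pPow p N) (hN : Good β V N) (a : ℕ) :
    ∀ d ∈ derS ((pPow p)^[a] N) (2 ^ (p - 1) - 1),
      d ^ p ^ (n + 2 ^ (2 ^ (p - 1) - 1)) ∈ (pPow p)^[(2 ^ (2 ^ (p - 1) - 1) + 1) * a] N := by
  set K := 2 ^ (p - 1) - 1 with hK
  set H := fun i => (pPow p)^[i] N with hH
  have hg : ∀ i, Good β V (H i) := fun i => hN.iterate i
  let G := (H a : Subgroup P)
  let F : FiltLie.Filt G :=
    { S := fun i => (H ((i + 1) * a)).subgroupOf G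
      normal := fun i => haveI := (hg ((i + 1) * a)).normal; inferInstance
      succ_le := fun i => fun z hz =>
        iterate_pPow_antitone N (Nat.mul_le_mul_right a (Nat.le_succ (i + 1))) hz
      zero := by rw [zero_add, one_mul]; exact subgroupOf_self _
      comm := fun i j => by
        rw [commutator_le]
        intro g hg' h hh
        refine iterate_pPow_antitone N ?_ (commutator_iterate_le hPE hN ((i + 1) * a) ((j + 1) * a)
          (commutator_mem_commutator hg' hh))
        rw [show i + j + 1 + 1 = (i + 1) + (j + 1) by omega, add_mul]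
        omega }
  let φ := rAut β G (hg a).inv
  have hφF : ∀ i, ∀ g ∈ F.S i, ((φ : G ≃* G) : G →* G) g ∈ F.S i := fun i g hgi =>
    (hg ((i + 1) * a)).inv _ hgi
  intro d hd
  rw [derS_eq_map] at hd
  obtain ⟨d, hd, rfl⟩ := hd
  obtain ⟨hdF, hdel⟩ := FiltLie.el_mem_der (F := F) K d hd
  have hzero := LieEigen.nsmul_der_of_fixed p (FiltLie.grMap _ hφF) (FiltLie.grMap_lie _ hφF)
    (FiltLie.grMap_iterate _ hφF p fun g => by
      have h : ∀ m : ℕ, (⇑((φ : G ≃* G) : G →* G))^[m] g = (φ ^ m) g := by
        intro m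
        induction m with
        | zero => rfl
        | succ m ih => rw [Function.iterate_succ_apply', ih, pow_succ']; rfl
      rw [h]
      exact Subtype.ext (by rw [rAut_pow, hβ, MulAut.one_apply]))
    (q := p ^ n) (fun z hz => FiltLie.nsmul_eq_zero_of_fixed _ hφF
      (fun i g _ hfix => haveI := F.normal (i + 1); pow_mem_of_fixed_mod (hP.to_subgroup G) φ
        ((card_fixed_rAut_le β G (hg a).inv).trans hn) (fun x hx => hφF (i + 1) x hx) hfix) hz)
    hdel
  rw [← pow_add, FiltLie.nsmul_el hdF, FiltLie.el_eq_zero_iff (pow_mem hdF _)] at hzero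
  have h : (((d ^ p ^ (n + 2 ^ K) : G) : P)) ∈ H ((2 ^ K - 1 + 1 + 1) * a) := hzero
  rw [SubgroupClass.coe_pow, show 2 ^ K - 1 + 1 + 1 = 2 ^ K + 1 by
    have := Nat.one_le_two_pow (n := K); omega] at h
  exact h

/-- The bound for odd primes. -/
def oddBound (p n : ℕ) : ℕ :=
  ((p ^ n) ^ p).factorial + (n * p) * segBound (2 ^ (p - 1) - 1) (n + 2 ^ (2 ^ (p - 1) - 1))

include β in
/-- **Alperin**, for odd prime powers. -/
theorem derivedSeries_eq_bot_of_odd (hp2 : p ≠ 2) (hP : IsPGroup p P) (hβ : β ^ p = 1) {n : ℕ}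
    (hn : Nat.card {g : P // β g = g} ≤ p ^ n) : derivedSeries P (oddBound p n) = ⊥ := by
  set R := (p ^ n) ^ p with hR
  set V := smallCent P p R with hV
  have hgV : Good β V V := good_smallCent β p R
  have hPE : ∀ N, Good β V N → ⁅N, V⁆ ≤ pPow p N := fun N hN => commutator_le_pPow β hP hβ hn hN
  have hfr := frattini_section_le β hβ hn hgV.normal hgV.inv
  rw [sup_eq_left.2 (hPE V hgV)] at hfr
  have h0 : layerSize p V 0 ≤ p ^ (n * p) := by rw [pow_mul]; exact hfr
  have h := derS_eq_bot hp2 hPE hP (fun N hN a => pow_mem_of_derS β hp2 hP hβ hn hPE hN a) _ V hgV h0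
  rw [oddBound, ← derS_top, derS_add, derS_top, eq_bot_iff, ← h]
  exact derS_mono (derivedSeries_le_smallCent hP) _

end CfsgLib.Alperin
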