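import Cfsg.Agent.Lib.PGroup.Alperin.Two
import Cfsg.Agent.Lib.PGroup.MetacyclicTwoAut
import Cfsg.Agent.Lib.Invol.CharTwo
import Cfsg.Agent.S3779

/-!
# Alperin's theorem for soluble groups

Reduction of the bound on the derived length to groups of prime power order.
-/

set_option autoImplicit false
set_option linter.style.haveILetI false
set_option linter.unusedSectionVars false

open Subgroup
open scoped commutatorElement

namespace CfsgLib.Alperin

universe u

variable {p : ℕ} [hp : Fact p.Prime]

/-- The class bound for a fixed-point-free automorphism of prime order. -/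
def fpfBound (p : ℕ) : ℕ :=
  Finset.sum (Finset.range (2 ^ (p - 1) - 1)) (fun i => (p - 1) ^ i)

/-- The bound for `p`-groups. -/
def pBound (p n : ℕ) : ℕ := twoBound n + oddBound p n

/-- **Alperin**, for prime powers. -/
theorem derivedSeries_eq_bot_of_isPGroup {P : Type u} [Group P] [Finite P] (hP : IsPGroup p P)
    (β : MulAut P) (hβ : β ^ p = 1) {n : ℕ} (hn : Nat.card {g : P // β g = g} ≤ p ^ n) :
    derivedSeries P (pBound p n) = ⊥ := by
  rw [eq_bot_iff]
  rcases eq_or_ne p 2 with h | h
  · subst h
    exact (derivedSeries_antitone P (Nat.le_add_right _ _)).trans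
      (derivedSeries_eq_bot_of_two β hP hβ hn).le
  · exact (derivedSeries_antitone P (Nat.le_add_left _ _)).trans
      (derivedSeries_eq_bot_of_odd β h hP hβ hn).le

/-- The bound for soluble groups with trivial `p'`-core. -/
def coreBound (p n : ℕ) : ℕ := ((p ^ n) ^ p).factorial + pBound p n

theorem derivedSeries_eq_bot_of_core {G : Type u} [Group G] [Finite G] [Group.IsSolvable G]
    (hO : Cfsg.pPrimeCore p G = ⊥) (α : MulAut G) (hα : α ^ p = 1) {n : ℕ}
    (hn : Nat.card {g : G // α g = g} ≤ p ^ n) : derivedSeries G (coreBound p n) = ⊥ := by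
  set P := Cfsg.pCore p G with hPdef
  have hPp : IsPGroup p P := Coprime.pCore_isPGroup p
  haveI hPc : P.Characteristic := Coprime.pCore_characteristic p
  have hC : centralizer (P : Set G) ≤ P := Invol.centralizer_pCore_le_of_solvable hO
  have hinv : ∀ x ∈ P, α x ∈ P := fun x hx =>
    characteristic_iff_map_le.1 hPc α (mem_map_of_mem _ hx)
  let β := rAut α P hinv
  have hβ : β ^ p = 1 := MulEquiv.ext fun x => Subtype.ext (by
    rw [rAut_pow, hα, MulAut.one_apply, MulAut.one_apply])
  have hnP : Nat.card {x : P // β x = x} ≤ p ^ n := (card_fixed_rAut_le α P hinv).trans hn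
  -- the Frattini quotient is small
  have hpow : ∀ x : P, x ^ p ∈ frattini P := CfsgLib.Coprime.pow_mem_frattini hPp
  have hcomm : commutator P ≤ frattini P := CfsgLib.Coprime.commutator_le_frattini hPp
  have hfr : Nat.card (P ⧸ frattini P) ≤ (p ^ n) ^ p := by
    have h := frattini_section_le β hβ hnP (N := ⊤) inferInstance (fun _ _ => mem_top _)
    rw [relIndex_top_right] at h
    refine le_trans (Subgroup.index_antitone (sup_le ((closure_le _).2 ?_) hcomm)) h
    rintro _ ⟨x, -, rfl⟩
    exact hpow x
  let c : G →* MulAut P := MulAut.conjNormal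
  let ψ : G →* MulAut (P ⧸ frattini P) := (PGroup.MetaTwo.frAut (R := P)).comp c
  have hker : ψ.ker ≤ P := by
    refine Coprime.le_pCore ?_
    intro g
    obtain ⟨k, hk⟩ := PGroup.MetaTwo.isPGroup_ker_frAut hPp ⟨c g, g.2⟩
    have h1 : (g : G) ^ p ^ k ∈ centralizer (P : Set G) := by
      rw [mem_centralizer_iff]
      intro x hx
      have h2 : c ((g : G) ^ p ^ k) = 1 := by
        rw [map_pow]
        exact congrArg Subtype.val hk
      have h3 : (g : G) ^ p ^ k * x * ((g : G) ^ p ^ k)⁻¹ = x := by
        rw [← MulAut.conjNormal_apply (H := P) ((g : G) ^ p ^ k) ⟨x, hx⟩]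
        show ((c ((g : G) ^ p ^ k) ⟨x, hx⟩ : P) : G) = x
        rw [h2]
        rfl
      exact (mul_inv_eq_iff_eq_mul.1 h3).symm
    obtain ⟨m, hm⟩ := hPp ⟨_, hC h1⟩
    refine ⟨k + m, Subtype.ext ?_⟩
    rw [SubgroupClass.coe_pow, pow_add, pow_mul, OneMemClass.coe_one]
    exact congrArg Subtype.val hm
  have hle : derivedSeries G ((p ^ n) ^ p).factorial ≤ P := by
    intro x hx
    refine hker ?_
    have hcard : Nat.card ψ.range ≤ ((p ^ n) ^ p).factorial := by
      refine (Nat.card_le_card_of_injective
        (fun e : ψ.range =>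
          ((e : MulAut (P ⧸ frattini P)) : (P ⧸ frattini P) ≃* (P ⧸ frattini P)).toEquiv) ?_).trans ?_
      · intro a b e
        exact Subtype.ext (MulEquiv.toEquiv_injective e)
      · rw [Nat.card_perm]
        exact Nat.factorial_le hfr
    haveI : Group.IsSolvable ψ.range :=
      Group.isSolvable_of_surjective ψ.rangeRestrict_surjective
    have h2 : ψ.rangeRestrict x ∈ derivedSeries ψ.range ((p ^ n) ^ p).factorial :=
      map_derivedSeries_le_derivedSeries ψ.rangeRestrict _ (mem_map_of_mem _ hx)
    rw [derivedSeries_eq_bot_of_card_le hcard, mem_bot] at h2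
    exact MonoidHom.mem_ker.2 (congrArg Subtype.val h2)
  rw [coreBound, ← derS_top, derS_add, derS_top, eq_bot_iff]
  refine (derS_mono hle _).trans ?_
  rw [derS_eq_map, derivedSeries_eq_bot_of_isPGroup hPp β hβ hnP, Subgroup.map_bot]

/-- **Alperin.** -/
theorem derivedSeries_eq_bot {G : Type u} [Group G] [Finite G] [Group.IsSolvable G]
    (α : MulAut G) (hα : α ^ p = 1) {n : ℕ} (hn : Nat.card {g : G // α g = g} = p ^ n) :
    derivedSeries G (coreBound p n + fpfBound p) = ⊥ := by
  set Q := Cfsg.pPrimeCore p G with hQdef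
  haveI hQc : Q.Characteristic := Coprime.pPrimeCore_characteristic p
  have hinv : ∀ x ∈ Q, α x ∈ Q := fun x hx =>
    characteristic_iff_map_le.1 hQc α (mem_map_of_mem _ hx)
  -- the `p'`-core
  have hfpf : ∀ x : Q, rAut α Q hinv x = x → x = 1 := by
    intro x hx
    let C : Subgroup G := MonoidHom.eqLocus ((α : G ≃* G) : G →* G) (MonoidHom.id G)
    have hxC : (x : G) ∈ C := congrArg Subtype.val hx
    have h1 : orderOf (x : G) ∣ p ^ n := by
      rw [← hn]
      exact Subgroup.orderOf_dvd_natCard C hxC
    have h2 : orderOf (x : G) ∣ Nat.card Q := Subgroup.orderOf_dvd_natCard Q x.2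
    have h3 := Nat.Coprime.eq_one_of_dvd
      (((Coprime.pPrimeCore_coprime (G := G) hp.out).pow_right n).coprime_dvd_left h2) h1
    exact Subtype.ext (orderOf_eq_one_iff.1 h3)
  have hQ : derivedSeries Q (fpfBound p) = ⊥ := by
    have hord : rAut α Q hinv ^ p = 1 := MulEquiv.ext fun x => Subtype.ext (by
      rw [rAut_pow, hα, MulAut.one_apply, MulAut.one_apply])
    rcases (Nat.dvd_prime hp.out).1 (orderOf_dvd_of_pow_eq_one hord) with h | h
    · rw [orderOf_eq_one_iff] at h
      rw [eq_bot_iff]
      intro x _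
      exact mem_bot.2 (hfpf x (by rw [h]; rfl))
    · rw [eq_bot_iff]
      exact (Subgroup.derived_le_lower_central _).trans
        (Cfsg.Agent.S3779.result hp.out (rAut α Q hinv) h hfpf).2.2.le
  -- the quotient
  haveI : Q.Normal := inferInstance
  have hord : qAut α Q hinv ^ p = 1 := MulEquiv.ext fun w => by
    induction w using QuotientGroup.induction_on with
    | _ x => rw [qAut_pow, hα, MulAut.one_apply, MulAut.one_apply]
  have hbot : derivedSeries (G ⧸ Q) (coreBound p n) = ⊥ :=
    derivedSeries_eq_bot_of_core (Coprime.pPrimeCore_quotient_eq_bot hp.out) (qAut α Q hinv) hord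
      ((card_fixed_qAut_le α Q hinv).trans hn.le)
  have hle : derivedSeries G (coreBound p n) ≤ Q := by
    intro x hx
    have := map_derivedSeries_le_derivedSeries (QuotientGroup.mk' Q) (coreBound p n)
      (mem_map_of_mem _ hx)
    rw [hbot, mem_bot] at this
    exact (QuotientGroup.eq_one_iff x).1 this
  rw [← derS_top, derS_add, derS_top, eq_bot_iff]
  refine (derS_mono hle _).trans ?_
  rw [derS_eq_map, hQ, Subgroup.map_bot]

end CfsgLib.Alperin
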