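import Cfsg.Agent.Lib.PGroup.Alperin.PGroup

/-!
# Alperin's theorem for 2-groups

A `2`-group with an involutory automorphism with at most `2 ^ n` fixed points has a subgroup of
bounded index with centre of bounded index.
-/

set_option autoImplicit false
set_option linter.style.haveILetI false
set_option linter.unusedSectionVars false

open Subgroup
open scoped commutatorElement

namespace CfsgLib.Alperin

universe u

variable {G : Type u} [Group G] [Finite G] (β : MulAut G)

theorem card_le_inverted_mul (hβ : β ^ 2 = 1) :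
    Nat.card G ≤ Nat.card {y : G // β y = y⁻¹} * Nat.card {g : G // β g = g} := by
  classical
  have hinvol : ∀ g, β (β g) = g := fun g => by
    rw [← MulAut.mul_apply, ← pow_two, hβ, MulAut.one_apply]
  let rep : G → G := fun m => if h : ∃ s, s⁻¹ * β s = m then h.choose else 1
  have hrep : ∀ t, (rep (t⁻¹ * β t))⁻¹ * β (rep (t⁻¹ * β t)) = t⁻¹ * β t := fun t => by
    simp only [rep, dif_pos (⟨t, rfl⟩ : ∃ s, s⁻¹ * β s = t⁻¹ * β t)]
    exact (⟨t, rfl⟩ : ∃ s, s⁻¹ * β s = t⁻¹ * β t).choose_spec
  rw [← Nat.card_prod]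
  refine Nat.card_le_card_of_injective
    (fun t => (⟨t⁻¹ * β t, by rw [map_mul, map_inv, hinvol, mul_inv_rev, inv_inv]⟩,
      ⟨t * (rep (t⁻¹ * β t))⁻¹, ?_⟩)) ?_
  · have e := hrep t
    rw [inv_mul_eq_iff_eq_mul] at e
    rw [map_mul, map_inv, e]
    group
  · intro t t' e
    simp only [Prod.mk.injEq, Subtype.mk.injEq] at e
    obtain ⟨e1, e2⟩ := e
    rw [e1] at e2
    exact mul_right_cancel e2

theorem sq_inverted_le [Fintype G] :
    Nat.card {y : G // β y = y⁻¹} ^ 2 ≤ ∑ g : G, Nat.card (centralizer ({g} : Set G)) := by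
  let S := {y : G // β y = y⁻¹}
  let T : G → Type u := fun g => {s : S // β ((s : G) * g) = ((s : G) * g)⁻¹}
  have hcount : Nat.card S ^ 2 ≤ Nat.card (Σ g, T g) := by
    rw [pow_two, ← Nat.card_prod]
    refine Nat.card_le_card_of_injective
      (fun x : S × S => (⟨(x.1 : G)⁻¹ * x.2, x.1, by rw [mul_inv_cancel_left]; exact x.2.2⟩ : Σ g, T g)) ?_
    intro x y e
    have h1 : x.1 = y.1 := congrArg (fun z : Σ g, T g => z.2.1) e
    have h2 : (x.1 : G)⁻¹ * x.2 = (y.1 : G)⁻¹ * y.2 := congrArg (fun z : Σ g, T g => z.1) e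
    rw [h1] at h2
    exact Prod.ext h1 (Subtype.ext (mul_left_cancel h2))
  refine hcount.trans ?_
  rw [Nat.card_sigma]
  refine Finset.sum_le_sum fun g _ => ?_
  rcases isEmpty_or_nonempty (T g) with h | ⟨⟨s₀⟩⟩
  · simp
  have key : ∀ s : T g, β g = (s.1 : G) * g⁻¹ * (s.1 : G)⁻¹ := fun s => by
    have h := s.2
    rw [map_mul, s.1.2, inv_mul_eq_iff_eq_mul, mul_inv_rev] at h
    rw [h, mul_assoc]
  refine Nat.card_le_card_of_injective
    (fun s => (⟨(s₀.1 : G)⁻¹ * s.1, ?_⟩ : centralizer ({g} : Set G))) ?_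
  · rw [mem_centralizer_singleton_iff]
    have h := (key s₀).symm.trans (key s)
    generalize (s₀.1 : G) = a at h ⊢
    generalize (s.1 : G) = b at h ⊢
    have h' : a * g * a⁻¹ = b * g * b⁻¹ := by
      have h2 := congrArg (·⁻¹) h
      simpa [mul_inv_rev, mul_assoc] using h2
    calc a⁻¹ * b * g = a⁻¹ * (b * g * b⁻¹) * b := by group
      _ = g * (a⁻¹ * b) := by rw [← h']; group
  · intro a b e
    exact Subtype.ext (Subtype.ext (mul_left_cancel (congrArg Subtype.val e)))

/-- Few elements of a generating set generate modulo the Frattini subgroup. -/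
theorem exists_small_generating {H : Subgroup G} {X : Set G} (hX : H = closure X) (h1 : (1 : G) ∈ X)
    {B : Subgroup H} (hB : B ≤ frattini H) :
    ∃ r : H ⧸ B → G, (∀ w, r w ∈ X) ∧ H ≤ closure (Set.range r) := by
  classical
  let r : H ⧸ B → G := fun w =>
    if h : ∃ x : H, (x : G) ∈ X ∧ (x : H ⧸ B) = w then ((h.choose : H) : G) else 1
  have hr : ∀ w, r w ∈ X := fun w => by
    by_cases h : ∃ x : H, (x : G) ∈ X ∧ (x : H ⧸ B) = w
    · simp only [r, dif_pos h]; exact h.choose_spec.1
    · simp only [r, dif_neg h]; exact h1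
  have hsub : ∀ z ∈ X, z ∈ H := fun z hz => hX ▸ subset_closure hz
  have key : ∀ x : H, (x : G) ∈ X → x ∈ (closure (Set.range r)).subgroupOf H ⊔ frattini H := by
    intro x hx
    have h : ∃ y : H, (y : G) ∈ X ∧ (y : H ⧸ B) = (x : H ⧸ B) := ⟨x, hx, rfl⟩
    have hy : (h.choose : G) = r (x : H ⧸ B) := by
      simp only [r]
      rw [dif_pos h]
    have h2 := QuotientGroup.eq.1 h.choose_spec.2
    generalize h.choose = y at hy h2
    rw [← mul_inv_cancel_left y x]
    refine mul_mem (mem_sup_left ?_) (mem_sup_right (hB h2))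
    rw [mem_subgroupOf, hy]
    exact subset_closure ⟨_, rfl⟩
  have hall : H ≤ ((closure (Set.range r)).subgroupOf H ⊔ frattini H).map H.subtype := by
    refine hX.le.trans ((closure_le _).2 fun z hz => ?_)
    exact ⟨⟨z, hsub z hz⟩, key ⟨z, hsub z hz⟩ hz, rfl⟩
  have htop : (closure (Set.range r)).subgroupOf H = ⊤ := by
    refine frattini_nongenerating (eq_top_iff.2 fun x _ => ?_)
    obtain ⟨y, hy, e⟩ := hall x.2
    exact H.subtype_injective e ▸ hy
  exact ⟨r, hr, subgroupOf_eq_top.1 htop⟩

/-- The bound for the prime 2. -/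
def twoBound (n : ℕ) : ℕ :=
  2 * (2 ^ n) ^ 2 + ((2 * (2 ^ n) ^ 2) ^ (2 ^ n) ^ 2 + 1)

include β in
/-- **Alperin**, for 2-groups. -/
theorem derivedSeries_eq_bot_of_two (hP : IsPGroup 2 G) (hβ : β ^ 2 = 1) {n : ℕ}
    (hn : Nat.card {g : G // β g = g} ≤ 2 ^ n) : derivedSeries G (twoBound n) = ⊥ := by
  classical
  haveI : Fact (Nat.Prime 2) := ⟨Nat.prime_two⟩
  haveI : Group.IsNilpotent G := hP.isNilpotent
  haveI := Fintype.ofFinite G
  set N := 2 ^ n with hN
  set K := 2 * N ^ 2 with hK
  set R := N ^ 2 with hR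
  set X := {g : G | (centralizer ({g} : Set G)).index ≤ K} with hX
  have hXbig : Nat.card G ≤ K * Nat.card X := by
    have h1 := (card_le_inverted_mul β hβ).trans (Nat.mul_le_mul le_rfl hn)
    have h2 := sq_inverted_le β
    set c := fun g : G => Nat.card (centralizer ({g} : Set G)) with hc
    have h3 : Nat.card G ^ 2 ≤ N ^ 2 * ∑ g, c g := by
      refine (Nat.pow_le_pow_left h1 2).trans ?_
      rw [mul_pow, mul_comm]
      exact Nat.mul_le_mul le_rfl h2
    have h4 : K * ∑ g, c g ≤ K * (Nat.card X * Nat.card G) + Nat.card G * Nat.card G := by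
      rw [← Finset.sum_filter_add_sum_filter_not Finset.univ (fun g => g ∈ X), mul_add]
      refine Nat.add_le_add (Nat.mul_le_mul le_rfl ?_) ?_
      · refine (Finset.sum_le_card_nsmul _ _ (Nat.card G) fun g _ => ?_).trans (le_of_eq ?_)
        · exact Subgroup.card_le_card_group _
        · rw [smul_eq_mul, Nat.card_eq_fintype_card (α := X), Fintype.card_subtype]
      · rw [Finset.mul_sum]
        refine (Finset.sum_le_card_nsmul _ _ (Nat.card G) fun g hg => ?_).trans ?_
        · have hgi : K < (centralizer ({g} : Set G)).index := by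
            simpa [hX] using (Finset.mem_filter.1 hg).2
          calc K * c g = c g * K := mul_comm _ _
            _ ≤ c g * (centralizer ({g} : Set G)).index := Nat.mul_le_mul le_rfl hgi.le
            _ = Nat.card G := Subgroup.card_mul_index _
        · rw [smul_eq_mul, Nat.card_eq_fintype_card (α := G)]
          exact Nat.mul_le_mul (Finset.card_le_univ _) le_rfl
    have h5 : 2 * (Nat.card G * Nat.card G) ≤ K * ∑ g, c g := by
      rw [hK, mul_assoc, ← pow_two]
      exact Nat.mul_le_mul le_rfl h3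
    have h6 : Nat.card G * Nat.card G ≤ K * Nat.card X * Nat.card G := by
      rw [mul_assoc K]; omega
    exact Nat.le_of_mul_le_mul_right h6 Nat.card_pos
  set H := closure X with hH
  have hidx : ∀ (f : G ≃* G) (g : G), g ∈ X → f g ∈ X := by
    intro f g hg
    show (centralizer ({f g} : Set G)).index ≤ K
    refine le_of_eq_of_le ?_ hg
    rw [show centralizer ({f g} : Set G) = (centralizer ({g} : Set G)).comap (f.symm : G →* G) by
      ext x
      rw [mem_comap, mem_centralizer_singleton_iff, mem_centralizer_singleton_iff,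
        MonoidHom.coe_coe]
      conv_lhs => rw [← f.apply_symm_apply x, ← map_mul, ← map_mul, f.injective.eq_iff]]
    exact Subgroup.index_comap_of_surjective _ f.symm.surjective
  have hHinv : ∀ (f : G ≃* G), ∀ x ∈ H, f x ∈ H := by
    intro f x hx
    induction hx using closure_induction with
    | mem z hz => exact subset_closure (hidx f z hz)
    | one => rw [map_one]; exact one_mem _
    | mul a b _ _ ha hb => rw [map_mul]; exact mul_mem ha hb
    | inv a _ ha => rw [map_inv]; exact inv_mem ha
  haveI hHn : H.Normal := ⟨fun x hx g => hHinv (MulAut.conj g) x hx⟩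
  have hHidx : H.index ≤ K := by
    refine Nat.le_of_mul_le_mul_left ?_ (Nat.card_pos (α := H))
    rw [Subgroup.card_mul_index, mul_comm]
    exact hXbig.trans (Nat.mul_le_mul le_rfl
      (Nat.card_le_card_of_injective (fun x : X => (⟨x, subset_closure x.2⟩ : H))
        fun a b e => Subtype.ext (congrArg Subtype.val e :)))
  have hfr : (pPow 2 H ⊔ ⁅H, H⁆).relIndex H ≤ R :=
    frattini_section_le β hβ hn hHn (hHinv β)
  set B := (pPow 2 H ⊔ ⁅H, H⁆).subgroupOf H with hB
  have hBF : B ≤ frattini H := by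
    have hle : pPow 2 H ⊔ ⁅H, H⁆ ≤ (frattini H).map H.subtype := by
      refine sup_le ((closure_le _).2 ?_) (commutator_le.2 fun a ha b hb => ?_)
      · rintro _ ⟨x, hx, rfl⟩
        exact ⟨⟨x, hx⟩ ^ 2, CfsgLib.Coprime.pow_mem_frattini (hP.to_subgroup H) _, rfl⟩
      · exact ⟨⁅(⟨a, ha⟩ : H), ⟨b, hb⟩⁆, CfsgLib.Coprime.commutator_le_frattini (hP.to_subgroup H)
          (commutator_mem_commutator (mem_top _) (mem_top _)), rfl⟩
    intro x hx
    obtain ⟨y, hy, e⟩ := hle hx
    exact H.subtype_injective e ▸ hy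
  have h1X : (1 : G) ∈ X := by
    show (centralizer ({(1 : G)} : Set G)).index ≤ K
    rw [show centralizer ({(1 : G)} : Set G) = ⊤ from eq_top_iff.2 fun x _ => by
      simp [mem_centralizer_singleton_iff], index_top]
    exact Nat.one_le_iff_ne_zero.2 (by positivity)
  obtain ⟨rep, hrepX, hgen⟩ := exists_small_generating (X := X) hH h1X hBF
  set D := ⨅ w : H ⧸ B, centralizer ({rep w} : Set G) with hD
  have hDidx : D.index ≤ K ^ R := by
    haveI := Fintype.ofFinite (H ⧸ B)
    refine (Subgroup.index_iInf_le _).trans ?_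
    refine (Finset.prod_le_prod' fun w _ => hrepX w).trans ?_
    rw [Finset.prod_const]
    refine Nat.pow_le_pow_right (Nat.pos_of_ne_zero (by positivity)) ?_
    rw [Finset.card_univ, ← Nat.card_eq_fintype_card]
    exact hfr
  have hDcen : D.subgroupOf H ≤ center H := by
    intro d hd
    rw [mem_center_iff]
    intro g
    have hg : (g : G) ∈ closure (Set.range rep) := hgen g.2
    have hle : closure (Set.range rep) ≤ centralizer ({(d : G)} : Set G) := by
      rw [closure_le]
      rintro _ ⟨w, rfl⟩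
      exact mem_centralizer_singleton_iff.2
        (mem_centralizer_singleton_iff.1 (Subgroup.mem_iInf.1 (mem_subgroupOf.1 hd) w)).symm
    exact Subtype.ext (mem_centralizer_singleton_iff.1 (hle hg))
  have hq : derivedSeries (H ⧸ center H) (K ^ R) = ⊥ := by
    refine derivedSeries_eq_bot_of_card_le ?_
    refine le_trans ((Subgroup.index_antitone hDcen).trans ?_) hDidx
    refine le_of_le_of_eq (Subgroup.relIndex_le_of_le_right le_top ?_) D.relIndex_top_right
    rw [relIndex_top_right]
    exact Subgroup.index_ne_zero_of_finite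
  have hH1 : derivedSeries H (K ^ R + 1) = ⊥ := by
    have h : derivedSeries H (K ^ R) ≤ center H := by
      intro x hx
      have := map_derivedSeries_le_derivedSeries (QuotientGroup.mk' (center H)) (K ^ R)
        (mem_map_of_mem _ hx)
      rw [hq, mem_bot] at this
      exact (QuotientGroup.eq_one_iff x).1 this
    rw [derivedSeries_succ, eq_bot_iff]
    refine (commutator_mono h le_rfl).trans (commutator_le.2 fun a ha b _ => ?_)
    rw [mem_bot, commutatorElement_eq_one_iff_mul_comm]
    exact (mem_center_iff.1 ha b).symm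
  have hGK : derivedSeries G K ≤ H := by
    intro x hx
    have := map_derivedSeries_le_derivedSeries (QuotientGroup.mk' H) K (mem_map_of_mem _ hx)
    rw [derivedSeries_eq_bot_of_card_le (H := G ⧸ H) hHidx, mem_bot] at this
    exact (QuotientGroup.eq_one_iff x).1 this
  rw [twoBound, ← derS_top, derS_add, derS_top, eq_bot_iff]
  refine (derS_mono hGK _).trans ?_
  rw [derS_eq_map, hH1, Subgroup.map_bot]

end CfsgLib.Alperin
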